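import Cfsg.Agent.Lib.Fusion.SmallCentre.Transvection
import Mathlib.GroupTheory.PGroup

/-!
A non-normal Sylow group of transvections with a common axis has order `p`.
-/

set_option autoImplicit false
set_option linter.unusedSectionVars false

namespace Cfsg.SmallCentre

variable {E : Type*} [Group E] [Finite E] {p : ℕ} [Fact p.Prime]

theorem exists_tv_of_axis (hE : IsPGroup p E) (comm : ∀ a b : E, a * b = b * a) {Z : Subgroup E}
    (hidx : Z.index = p) {A R : Subgroup (MulAut E)} (hRA : R ≤ A) (hRp : IsPGroup p R)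
    (hR : R ≤ stab Z Z le_rfl) (hR1 : R ≠ ⊥)
    (hmax : ∀ U : Subgroup (MulAut E), U ≤ A → IsPGroup p U → ∃ ψ ∈ A, ∀ u ∈ U, ψ * u * ψ⁻¹ ∈ R)
    (hnot : ∃ φ ∈ A, ∃ r ∈ R, φ * r * φ⁻¹ ∉ R) :
    ∃ (c : MulAut E) (k : E), R = Subgroup.zpowers c ∧ TV p A c Z k := by
  haveI : Finite (MulAut E) := Finite.of_injective (fun α : MulAut E => (α : E → E)) DFunLike.coe_injective
  haveI hnorm : ∀ H : Subgroup E, H.Normal := fun H =>
    ⟨fun n hn g => by rw [comm g n, mul_inv_cancel_right]; exact hn⟩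
  have hcardle : ∀ U : Subgroup (MulAut E), U ≤ A → IsPGroup p U → Nat.card U ≤ Nat.card R := by
    intro U hU hUp
    obtain ⟨ψ, hψ, h⟩ := hmax U hU hUp
    refine Nat.card_le_card_of_injective (fun u => (⟨ψ * (u : MulAut E) * ψ⁻¹, h u u.2⟩ : R)) fun a b e => ?_
    exact Subtype.ext (mul_left_cancel (mul_right_cancel (congrArg Subtype.val e)))
  have hstab : A ⊓ stab Z Z le_rfl = R :=
    (Subgroup.eq_of_le_of_card_ge (le_inf hRA hR)
      (hcardle _ inf_le_left ((isPGroup_stab hE le_rfl).to_le inf_le_right))).symm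
  obtain ⟨φ, hφ, hφZ⟩ : ∃ φ ∈ A, Z.map φ.toMonoidHom ≠ Z := by
    obtain ⟨φ, hφ, r, hr, hn⟩ := hnot
    refine ⟨φ, hφ, fun hZ => hn (hstab ▸ ⟨A.mul_mem (A.mul_mem hφ (hRA hr)) (A.inv_mem hφ), ?_⟩)⟩
    have hfix : ∀ x ∈ Z, (φ * r * φ⁻¹) x = x := fun x hx => by
      obtain ⟨y, hy, rfl⟩ := hZ.ge hx
      show φ (r (φ⁻¹ (φ y))) = φ y
      rw [MulAut.inv_apply_self, (hR hr).1 y hy]
    refine ⟨hfix, fun x hx => by rw [hfix x hx]; simp, fun x => hZ.le (Subgroup.mem_map.mpr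
      ⟨(φ⁻¹ x)⁻¹ * r (φ⁻¹ x), (hR hr).2.2 _, ?_⟩)⟩
    show φ ((φ⁻¹ x)⁻¹ * r (φ⁻¹ x)) = x⁻¹ * φ (r (φ⁻¹ x))
    rw [map_mul, map_inv, MulAut.apply_inv_self]
  have hpp : p.Prime := Fact.out
  -- the fixed points of a nontrivial element of `R`
  have hfixset : ∀ r ∈ R, r ≠ 1 → ∀ e, r e = e → e ∈ Z := by
    intro r hr hr1 e he
    set Fx := r.toMonoidHom.eqLocus (MonoidHom.id E) with hFx
    have hle : Z ≤ Fx := fun z hz => (hR hr).1 z hz
    rcases (Nat.dvd_prime hpp).mp (hidx ▸ Subgroup.index_dvd_of_le hle) with e1 | e1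
    · refine absurd (MulEquiv.ext fun w => ?_) hr1
      exact (Subgroup.index_eq_one.mp e1 ▸ Subgroup.mem_top w : w ∈ Fx)
    · by_contra hn
      have hlt : Z < Fx := lt_of_le_of_ne hle fun e2 => hn (e2 ▸ (he : e ∈ Fx))
      have := Subgroup.index_strictAnti hlt
      omega
  obtain ⟨x, hx⟩ : ∃ x, x ∉ Z := by
    by_contra hh
    push Not at hh
    rw [(Subgroup.eq_top_iff' Z).mpr hh, Subgroup.index_top] at hidx
    exact hpp.one_lt.ne hidx
  have hdec : ∀ e, ∃ z ∈ Z, ∃ i : ℤ, e = z * x ^ i := by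
    intro e
    have hlt : Z < Z ⊔ Subgroup.zpowers x := lt_of_le_of_ne le_sup_left fun e' =>
      hx (e' ▸ Subgroup.mem_sup_right (Subgroup.mem_zpowers x))
    have htop : Z ⊔ Subgroup.zpowers x = ⊤ := by
      rw [← Subgroup.index_eq_one]
      have hd : (Z ⊔ Subgroup.zpowers x).index ∣ p := hidx ▸ Subgroup.index_dvd_of_le le_sup_left
      refine ((Nat.dvd_prime hpp).mp hd).resolve_right fun h2 => ?_
      have := Subgroup.index_strictAnti hlt
      omega
    have he : e ∈ Z ⊔ Subgroup.zpowers x := by rw [htop]; trivial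
    obtain ⟨z, hz, _, ⟨i, rfl⟩, rfl⟩ := Subgroup.mem_sup_of_normal_left.mp he
    exact ⟨z, hz, i, rfl⟩
  let δ : R →* E :=
    { toFun := fun r => x⁻¹ * (r : MulAut E) x
      map_one' := by simp
      map_mul' := fun r s => by
        have h1 : (r : MulAut E) (x⁻¹ * (s : MulAut E) x) = x⁻¹ * (s : MulAut E) x := (hR r.2).1 _ ((hR s.2).2.2 x)
        rw [map_mul, map_inv] at h1
        rw [Subgroup.coe_mul, MulAut.mul_apply,
          show (r : MulAut E) ((s : MulAut E) x) = (r : MulAut E) x * (x⁻¹ * (s : MulAut E) x) by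
            rw [← h1, mul_inv_cancel_left]]
        group }
  have hδ : ∀ r : R, δ r = x⁻¹ * (r : MulAut E) x := fun r => rfl
  have hrange : ∀ (r : R) (e : E), e⁻¹ * (r : MulAut E) e ∈ Subgroup.zpowers (δ r) := by
    intro r e
    obtain ⟨z, hz, i, rfl⟩ := hdec e
    refine ⟨i, ?_⟩
    show δ r ^ i = _
    rw [map_mul, map_zpow, (hR r.2).1 z hz, hδ,
      show (r : MulAut E) x = x * (x⁻¹ * (r : MulAut E) x) by group,
      Commute.mul_zpow (comm x _), ← hδ, mul_inv_rev, inv_mul_cancel_left]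
    group
  have hinj : ∀ r : R, δ r = 1 → r = 1 := by
    intro r h1
    refine Subtype.ext (MulEquiv.ext fun e => ?_)
    obtain ⟨i, hi⟩ := hrange r e
    have hi' : (δ r) ^ i = e⁻¹ * (r : MulAut E) e := hi
    rw [h1, one_zpow] at hi'
    exact (inv_mul_eq_one.mp hi'.symm).symm
  have hmiss : ∀ r : R, δ r ∈ Z.map φ.toMonoidHom → r = 1 := by
    intro r hr
    by_contra hr1
    set k := δ r with hk
    have hkZ : k ∈ Z := (hR r.2).2.2 x
    set L := Subgroup.zpowers k with hL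
    set W := L ⊔ Subgroup.zpowers (φ k) with hW
    set d := φ * (r : MulAut E) * φ⁻¹ with hd
    have hdfix : ∀ w ∈ Z.map φ.toMonoidHom, d w = w := by
      rintro _ ⟨z, hz, rfl⟩
      show φ ((r : MulAut E) (φ⁻¹ (φ z))) = φ z
      rw [MulAut.inv_apply_self, (hR r.2).1 z hz]
    have hWle : W ≤ Z.map φ.toMonoidHom :=
      sup_le (Subgroup.zpowers_le.mpr hr) (Subgroup.zpowers_le.mpr (Subgroup.mem_map.mpr ⟨k, hkZ, rfl⟩))
    have h1 : (r : MulAut E) ∈ stab L W le_sup_left :=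
      ⟨fun w hw => (hR r.2).1 w (Subgroup.zpowers_le.mpr hkZ hw), fun w _ => hrange r w,
        fun w => Subgroup.mem_sup_left (hrange r w)⟩
    have h2 : d ∈ stab L W le_sup_left := by
      refine ⟨fun w hw => hdfix w (hWle (Subgroup.mem_sup_left hw)),
        fun w hw => by rw [hdfix w (hWle hw)]; simp, fun w => Subgroup.mem_sup_right ?_⟩
      obtain ⟨i, hi⟩ := hrange r (φ⁻¹ w)
      refine ⟨i, ?_⟩
      show (φ k) ^ i = w⁻¹ * φ ((r : MulAut E) (φ⁻¹ w))
      rw [← map_zpow, show k ^ i = (φ⁻¹ w)⁻¹ * (r : MulAut E) (φ⁻¹ w) from hi, map_mul, map_inv,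
        MulAut.apply_inv_self]
    obtain ⟨ψ, hψ, hU⟩ := hmax (A ⊓ stab L W le_sup_left) inf_le_left
      ((isPGroup_stab hE le_sup_left).to_le inf_le_right)
    have key : ∀ (θ : MulAut E), θ * (r : MulAut E) * θ⁻¹ ∈ R → Z.map θ.toMonoidHom = Z := by
      intro θ hθ
      refine Subgroup.eq_of_le_of_card_ge ?_ (le_of_eq ?_)
      · rintro _ ⟨z, hz, rfl⟩
        refine hfixset _ hθ (fun e => hr1 (Subtype.ext (conj_eq_one_iff.mp e))) _ ?_
        show θ ((r : MulAut E) (θ⁻¹ (θ z))) = θ z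
        rw [MulAut.inv_apply_self, (hR r.2).1 z hz]
      · exact Nat.card_congr (Z.equivMapOfInjective _ θ.injective).toEquiv
    have e1 := key ψ (hU _ ⟨hRA r.2, h1⟩)
    have e2 := key (ψ * φ) (by
      have := hU d ⟨A.mul_mem (A.mul_mem hφ (hRA r.2)) (A.inv_mem hφ), h2⟩
      rwa [hd, show ψ * (φ * (r : MulAut E) * φ⁻¹) * ψ⁻¹ = ψ * φ * (r : MulAut E) * (ψ * φ)⁻¹ by group] at this)
    refine hφZ (Subgroup.map_injective (f := ψ.toMonoidHom) ψ.injective ?_)
    rw [Subgroup.map_map, e1]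
    exact e2
  have hcard : Nat.card R = p := by
    have hle : Nat.card R ≤ p := by
      calc Nat.card R ≤ Nat.card (E ⧸ Z.map φ.toMonoidHom) :=
            Nat.card_le_card_of_injective (fun r => (QuotientGroup.mk' (Z.map φ.toMonoidHom)).comp δ r) (by
              refine (injective_iff_map_eq_one _).mpr fun r hr => hmiss r ?_
              exact (QuotientGroup.eq_one_iff _).mp hr)
        _ = p := by rw [← Subgroup.index_eq_card, Subgroup.index_map_of_bijective φ.bijective, hidx]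
    haveI : Nontrivial R := (Subgroup.nontrivial_iff_ne_bot R).mpr hR1
    obtain ⟨n, hn⟩ := IsPGroup.iff_card.mp hRp
    rcases n with _ | _ | n
    · exact absurd hn Finite.one_lt_card.ne'
    · simpa using hn
    · exfalso
      have h2 : p ^ 2 ≤ p := le_trans (le_trans (Nat.pow_le_pow_right hpp.pos (by omega)) hn.ge) hle
      nlinarith [hpp.two_le]
  obtain ⟨⟨c, hcR⟩, hc1⟩ : ∃ c : R, c ≠ 1 := by
    haveI : Nontrivial R := (Subgroup.nontrivial_iff_ne_bot R).mpr hR1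
    exact exists_ne 1
  have hcne : c ≠ 1 := fun e => hc1 (Subtype.ext e)
  have hord : orderOf c = p := by
    rcases (Nat.dvd_prime hpp).mp (hcard ▸ Subgroup.orderOf_dvd_natCard R hcR) with e | e
    · exact absurd (orderOf_eq_one_iff.mp e) hcne
    · exact e
  have hReq : R = Subgroup.zpowers c :=
    (Subgroup.eq_of_le_of_card_ge (Subgroup.zpowers_le.mpr hcR) (by rw [Nat.card_zpowers, hord, hcard])).symm
  refine ⟨c, δ ⟨c, hcR⟩, hReq, hE, comm, hRA hcR, ?_, ⟨φ, hφ, fun h => hφZ ?_⟩,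
    fun e => ⟨hfixset c hcR hcne e, fun he => (hR hcR).1 e he⟩, hrange ⟨c, hcR⟩, (hR hcR).2.2 x, ?_, hidx⟩
  · intro U hU hUp hcU
    refine (Subgroup.eq_of_le_of_card_ge (Subgroup.zpowers_le.mpr hcU) ?_).ge
    rw [Nat.card_zpowers, hord, ← hcard]
    exact hcardle U hU hUp
  · refine Subgroup.eq_of_le_of_card_ge ?_ (le_of_eq ?_)
    · rintro _ ⟨z, hz, rfl⟩
      refine hfixset _ (hReq ▸ h) (fun e => hcne (conj_eq_one_iff.mp e)) _ ?_
      show φ (c (φ⁻¹ (φ z))) = φ z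
      rw [MulAut.inv_apply_self, (hR hcR).1 z hz]
    · exact Nat.card_congr (Z.equivMapOfInjective _ φ.injective).toEquiv
  · refine orderOf_eq_prime ?_ fun e => hc1 (hinj _ e)
    rw [← map_pow, show (⟨c, hcR⟩ : R) ^ p = 1 from Subtype.ext (by push_cast; rw [← hord, pow_orderOf_eq_one]), map_one]

end Cfsg.SmallCentre
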