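import Cfsg.Agent.Lib.Fusion.SmallCentre.Maps

/-!
For odd `p`: the centre of `S` has order `p`.
-/

set_option autoImplicit false
set_option linter.unusedSectionVars false

open scoped commutatorElement

namespace Cfsg.SmallCentre

open Cfsg FusionSystem

variable {Ω : Type*} [Group Ω] {S : Subgroup Ω} [Finite S] {p : ℕ} [Fact p.Prime] {F : FusionSystem S}
  {E : Subgroup Ω}

/-- Automorphisms of `S` inverting the derived subgroup and centralising `Z(S)/[S,S]`. -/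
structure Good (F : FusionSystem S) (β : MulAut S) : Prop where
  mem : β ∈ F.autGroup S
  stab : ∀ z ∈ Subgroup.center S, z⁻¹ * β z ∈ der S
  inv : ∀ c ∈ der S, β c = c⁻¹

theorem Good.unique (h : Hyp p F) {β₁ β₂ : MulAut S} (h₁ : Good F β₁) (h₂ : Good F β₂) {z : S}
    (hz : z ∈ Subgroup.center S) : β₁ z = β₂ z := by
  have hinv : ∀ c ∈ der S, β₂⁻¹ c = c⁻¹ := fun c hc => by
    apply β₂.injective
    rw [MulAut.apply_inv_self, map_inv, h₂.inv c hc, inv_inv]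
  have := h.fixes_of_stab (γ := β₂⁻¹ * β₁) (mul_mem (inv_mem h₂.mem) h₁.mem) (fun y hy => ?_) (fun c hc => ?_) hz
  · have h3 := congrArg (fun w => β₂ w) this
    simpa using h3
  · have hd : (β₂ y)⁻¹ * β₁ y ∈ der S := by
      rw [show (β₂ y)⁻¹ * β₁ y = (y⁻¹ * β₂ y)⁻¹ * (y⁻¹ * β₁ y) by group]
      exact Subgroup.mul_mem _ (Subgroup.inv_mem _ (h₂.stab y hy)) (h₁.stab y hy)
    have e : y⁻¹ * (β₂⁻¹ * β₁) y = β₂⁻¹ ((β₂ y)⁻¹ * β₁ y) := by simp
    rw [e, hinv _ hd]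
    exact Subgroup.inv_mem _ hd
  · rw [MulAut.mul_apply, h₁.inv c hc, map_inv, hinv c hc, inv_inv]

theorem Hyp.exists_good (h : Hyp p F) (hE : F.IsEssential p E) {φ : MulAut E} (hφ : φ ∈ F.autGroup E)
    (hZ : ((cen S).subgroupOf E).map φ.toMonoidHom ≠ (cen S).subgroupOf E) :
    ∃ β, Good F β ∧
      ∀ y ∈ (cen S).subgroupOf E ⊓ ((cen S).subgroupOf E).map φ.toMonoidHom,
        β ⟨(y : Ω), hE.1.1 y.2⟩ = ⟨(y : Ω), hE.1.1 y.2⟩ := by
  obtain ⟨x, e, hx, hk, he, hxE, hko, hK, htv⟩ := h.exists_tv hE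
  have hES := hE.1.1
  haveI : Finite E := finite_of_le hES
  obtain ⟨ι, hι, hιZ, hιk, hιy⟩ := htv.exists_iota hφ hZ
  obtain ⟨β, hβ, hβe⟩ := h.exists_extend hE hι hιZ
  have hinv : ∀ c ∈ der S, β c = c⁻¹ := by
    intro c hc
    have hc' : (c : Ω) ∈ ⁅S, S⁆ := hc
    rw [hK] at hc'
    obtain ⟨i, hi⟩ := hc'
    have hcE : (c : Ω) ∈ E := hi ▸ E.zpow_mem hk i
    refine Subtype.ext ?_
    have h2 : (⟨c, hcE⟩ : E) = (⟨_, hk⟩ : E) ^ i := Subtype.ext (by push_cast; exact hi.symm)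
    have h5 : ι ⟨c, hcE⟩ = ((⟨_, hk⟩ : E) ^ i)⁻¹ := by rw [h2, map_zpow, hιk, inv_zpow]
    have h1 : ((β c : S) : Ω) = ((ι ⟨c, hcE⟩ : E) : Ω) := hβe ⟨c, hcE⟩
    rw [h1, h5]
    push_cast
    exact congrArg (·⁻¹) hi
  refine ⟨β, ⟨hβ, fun z hz => ?_, hinv⟩, fun y hy => Subtype.ext ?_⟩
  · have hzc : (z : Ω) ∈ cen S := mem_cen.mpr ⟨z.2, hz⟩
    have hzE : (z : Ω) ∈ E := h.cen_le_ess hE hzc
    obtain ⟨y, hy, i, hzy⟩ := htv.decomp hφ hZ (z := ⟨z, hzE⟩) hzc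
    show ((z⁻¹ * β z : S) : Ω) ∈ ⁅S, S⁆
    push_cast
    have h1 := hβe ⟨z, hzE⟩
    have h3 : ((β z : S) : Ω) = (β ⟨((⟨z, hzE⟩ : E) : Ω), hES hzE⟩ : S) := rfl
    rw [h3, h1, hK]
    have h5 : ι ⟨z, hzE⟩ = y * (⟨_, hk⟩ : E)⁻¹ ^ i := by rw [hzy, map_mul, map_zpow, hιy y hy, hιk]
    rw [h5, show (z : Ω) = ((y * (⟨_, hk⟩ : E) ^ i : E) : Ω) from congrArg Subtype.val hzy]
    push_cast
    rw [show ((y : Ω) * ⁅x, e⁆ ^ i)⁻¹ * ((y : Ω) * ⁅x, e⁆⁻¹ ^ i) = ⁅x, e⁆ ^ (-i) * ⁅x, e⁆⁻¹ ^ i by group]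
    exact Subgroup.mul_mem _ (Subgroup.zpow_mem _ (Subgroup.mem_zpowers _) _)
      (Subgroup.zpow_mem _ (Subgroup.inv_mem _ (Subgroup.mem_zpowers _)) _)
  · rw [hβe y, hιy y hy]

theorem eq_one_of_inv_eq {G : Type*} [Group G] (hp : p ≠ 2) {x : G} (hx : x ^ p = 1) (h : x⁻¹ = x) : x = 1 := by
  have h2 : x ^ 2 = 1 := by rw [pow_two, ← inv_eq_iff_mul_eq_one]; exact h
  have hc : Nat.Coprime 2 p := (Nat.coprime_primes Nat.prime_two Fact.out).mpr (Ne.symm hp)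
  exact orderOf_eq_one_iff.mp (Nat.eq_one_of_dvd_coprimes hc (orderOf_dvd_of_pow_eq_one h2) (orderOf_dvd_of_pow_eq_one hx))

/-- The fixed points of a good automorphism on the centre. -/
def fixC (β : MulAut S) : Subgroup Ω :=
  (Subgroup.center S ⊓ β.toMonoidHom.eqLocus (MonoidHom.id S)).map S.subtype

theorem mem_fixC {β : MulAut S} {x : Ω} :
    x ∈ fixC β ↔ ∃ hx : x ∈ S, (⟨x, hx⟩ : S) ∈ Subgroup.center S ∧ β ⟨x, hx⟩ = ⟨x, hx⟩ := by
  constructor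
  · rintro ⟨y, hy, rfl⟩
    exact ⟨y.2, hy.1, hy.2⟩
  · rintro ⟨hx, h1, h2⟩
    exact ⟨⟨x, hx⟩, ⟨h1, h2⟩, rfl⟩

theorem Hyp.mem_inf_iff (h : Hyp p F) (hp : p ≠ 2) {β : MulAut S} (hβ : Good F β) (hE : F.IsEssential p E)
    {φ : MulAut E} (hφ : φ ∈ F.autGroup E)
    (hZ : ((cen S).subgroupOf E).map φ.toMonoidHom ≠ (cen S).subgroupOf E) (y : E) :
    y ∈ (cen S).subgroupOf E ⊓ ((cen S).subgroupOf E).map φ.toMonoidHom ↔ (y : Ω) ∈ fixC β := by
  obtain ⟨β', hβ', hfix⟩ := h.exists_good hE hφ hZ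
  obtain ⟨x, e, hx, hk, he, hxE, hko, hK, htv⟩ := h.exists_tv hE
  haveI : Finite E := finite_of_le hE.1.1
  have hcen : ∀ w ∈ (cen S).subgroupOf E, (⟨(w : Ω), hE.1.1 w.2⟩ : S) ∈ Subgroup.center S := fun w hw =>
    (mem_cen.mp (Subgroup.mem_subgroupOf.mp hw)).2
  constructor
  · intro hy
    exact mem_fixC.mpr ⟨_, hcen y hy.1, (hβ.unique h hβ' (hcen y hy.1)).trans (hfix y hy)⟩
  · intro hy
    obtain ⟨hyS, hyc, hyf⟩ := mem_fixC.mp hy
    obtain ⟨w, hw, i, rfl⟩ := htv.decomp hφ hZ (z := y) (mem_cen.mpr ⟨hyS, hyc⟩)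
    suffices hki : (⟨⁅x, e⁆, hk⟩ : E) ^ i = 1 by rwa [hki, mul_one]
    set kS : S := ⟨⁅x, e⁆, hE.1.1 hk⟩ with hkS
    have hsplit : (⟨((w * (⟨⁅x, e⁆, hk⟩ : E) ^ i : E) : Ω), hyS⟩ : S) = (⟨(w : Ω), hE.1.1 w.2⟩ : S) * kS ^ i :=
      Subtype.ext (by push_cast; rfl)
    have hder : kS ∈ der S := by
      show ⁅x, e⁆ ∈ ⁅S, S⁆
      rw [hK]; exact Subgroup.mem_zpowers _
    rw [hsplit, map_mul, map_zpow, hβ.inv kS hder, (hβ.unique h hβ' (hcen w hw.1)).trans (hfix w hw), inv_zpow] at hyf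
    have h1 := mul_left_cancel hyf
    have hp' : (kS ^ i) ^ p = 1 := by
      rw [← zpow_natCast, ← zpow_mul, mul_comm, zpow_mul, zpow_natCast]
      have : kS ^ p = 1 := by
        refine Subtype.ext ?_
        push_cast
        show ⁅x, e⁆ ^ p = 1
        rw [← hko, pow_orderOf_eq_one]
      rw [this, one_zpow]
    have h2 := congrArg Subtype.val (eq_one_of_inv_eq hp hp' h1)
    push_cast at h2
    exact Subtype.ext (by push_cast; exact h2)

theorem Hyp.card_cen_odd (h : Hyp p F) (hp : p ≠ 2) : Nat.card (cen S) = p := by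
  obtain ⟨E₀, hE₀⟩ := h.exists_essential
  have exmov : ∀ E : Subgroup Ω, F.IsEssential p E → ∃ φ ∈ F.autGroup E,
      ((cen S).subgroupOf E).map φ.toMonoidHom ≠ (cen S).subgroupOf E := fun E hE => by
    obtain ⟨x, e, hx, hk, he, hxE, hko, hK, htv⟩ := h.exists_tv hE
    haveI : Finite E := finite_of_le hE.1.1
    exact htv.exists_moving
  obtain ⟨φ₀, hφ₀, hZ₀⟩ := exmov E₀ hE₀
  obtain ⟨β, hβ, -⟩ := h.exists_good hE₀ hφ₀ hZ₀
  have hC : fixC β = ⊥ := by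
    refine h.eq_bot_of_invariant (fun x hx => (mem_fixC.mp hx).1) (fun α hα y hy => ?_) fun E hE => ⟨?_, ?_⟩
    · obtain ⟨hyS, hyc, hyf⟩ := mem_fixC.mp hy
      have hy' : y ∈ Subgroup.center S := hyc
      have hyf' : β y = y := hyf
      have hder : ∀ (γ : MulAut S), γ ∈ F.autGroup S → ∀ c ∈ der S, γ c ∈ der S := by
        intro γ _ c hc
        have e : der S = commutator S := by
          apply Subgroup.map_injective S.subtype_injective
          rw [Subgroup.map_subgroupOf_eq_of_le (Subgroup.commutator_le.mpr fun a ha b hb =>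
            S.mul_mem (S.mul_mem (S.mul_mem ha hb) (S.inv_mem ha)) (S.inv_mem hb)), Subgroup.map_subtype_commutator]
        rw [e] at hc ⊢
        exact (Subgroup.characteristic_iff_le_comap.mp inferInstance γ) hc
      have hg : Good F (α⁻¹ * β * α) := by
        refine ⟨mul_mem (mul_mem (inv_mem hα) hβ.mem) hα, fun z hz => ?_, fun c hc => ?_⟩
        · have := hder α⁻¹ (inv_mem hα) _ (hβ.stab (α z) (apply_mem_center α hz))
          simpa using this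
        · simp only [MulAut.mul_apply]
          rw [hβ.inv _ (hder α hα c hc), map_inv, MulAut.inv_apply_self]
      refine mem_fixC.mpr ⟨(α y).2, apply_mem_center α hy', ?_⟩
      show β (α y) = α y
      have := congrArg (fun w => α w) (hg.unique h hβ hy')
      simp only [MulAut.mul_apply, MulAut.apply_inv_self] at this
      rw [this, hyf']
    · intro x hx
      exact h.cen_le_ess hE (mem_cen.mpr ⟨(mem_fixC.mp hx).1, (mem_fixC.mp hx).2.1⟩)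
    · intro ψ hψ y hy
      obtain ⟨φ, hφ, hZ⟩ := exmov E hE
      have hmem : ∀ χ ∈ F.autGroup E, y ∈ ((cen S).subgroupOf E).map χ.toMonoidHom := by
        intro χ hχ
        by_cases hc : ((cen S).subgroupOf E).map χ.toMonoidHom = (cen S).subgroupOf E
        · rw [hc]; exact mem_cen.mpr ⟨(mem_fixC.mp hy).1, (mem_fixC.mp hy).2.1⟩
        · exact ((h.mem_inf_iff hp hβ hE hχ hc y).mpr hy).2
      refine (h.mem_inf_iff hp hβ hE hφ hZ (ψ y)).mp ⟨?_, ?_⟩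
      · obtain ⟨w, hw, he⟩ := hmem ψ⁻¹ (inv_mem hψ)
        have he' : ψ⁻¹ w = y := he
        rw [← he', MulAut.apply_inv_self]
        exact hw
      · obtain ⟨w, hw, he⟩ := hmem (ψ⁻¹ * φ) (mul_mem (inv_mem hψ) hφ)
        have he' : ψ⁻¹ (φ w) = y := he
        rw [← he', MulAut.apply_inv_self]
        exact ⟨w, hw, rfl⟩
  obtain ⟨x, e, hx, hk, he, hxE, hko, hK, htv⟩ := h.exists_tv hE₀
  haveI : Finite E₀ := finite_of_le hE₀.1.1
  have hZE := h.cen_le_ess hE₀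
  have hkc : ⁅x, e⁆ ∈ cen S := h.commutator_le hx (hE₀.1.1 he)
  have : cen S = Subgroup.zpowers ⁅x, e⁆ := by
    refine le_antisymm (fun z hz => ?_) (Subgroup.zpowers_le.mpr hkc)
    obtain ⟨w, hw, i, hi⟩ := htv.decomp hφ₀ hZ₀ (z := ⟨z, hZE hz⟩) hz
    have hw1 : (w : Ω) = 1 := Subgroup.mem_bot.mp (hC ▸ (h.mem_inf_iff hp hβ hE₀ hφ₀ hZ₀ w).mp hw)
    refine ⟨i, ?_⟩
    have := congrArg Subtype.val hi
    push_cast at this
    rw [hw1, one_mul] at this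
    exact this.symm
  rw [this, Nat.card_zpowers, hko]

end Cfsg.SmallCentre
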