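import Cfsg.Agent.Lib.Fusion.SmallCentre.Basic
import Mathlib.Data.Nat.Factorization.Basic

/-!
Automorphisms of `S` and of the essential subgroups when the centre has index `p ^ 2`.
-/

set_option autoImplicit false
set_option linter.unusedSectionVars false

open scoped commutatorElement

namespace Cfsg.SmallCentre

open Cfsg FusionSystem

variable {Ω : Type*} [Group Ω] {S : Subgroup Ω} [Finite S] {p : ℕ} [Fact p.Prime] {F : FusionSystem S}
  {E : Subgroup Ω}

/-- The derived subgroup of `S`, inside `S`. -/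
abbrev der (S : Subgroup Ω) : Subgroup S := (⁅S, S⁆).subgroupOf S

theorem apply_mem_center (α : MulAut S) {z : S} (hz : z ∈ Subgroup.center S) : α z ∈ Subgroup.center S := by
  refine Subgroup.mem_center_iff.mpr fun g => ?_
  rw [← MulAut.apply_inv_self S α g, ← map_mul, ← map_mul, Subgroup.mem_center_iff.mp hz]

/-- Elements of `Aut_F(S)` of `p`-power order are inner. -/
theorem Hyp.exists_conj_of_pow (h : Hyp p F) {α : MulAut S} (hα : α ∈ F.autGroup S) {n : ℕ}
    (hn : α ^ p ^ n = 1) : ∃ s : S, MulAut.conj s = α := by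
  obtain ⟨-, R, hR⟩ := h.sat.isFullyAutomized_of_isFullyNormalized h.pg (isFullyNormalized_self (F := F))
  haveI := finite_autGroup (F := F) (P := S) le_rfl
  rw [← inn_eq_autInducedBy] at hR
  haveI : ((Inn S).subgroupOf (F.autGroup S)).Normal := ⟨fun a ha g => by
    obtain ⟨s, hs⟩ := Subgroup.mem_subgroupOf.mp ha
    refine Subgroup.mem_subgroupOf.mpr ⟨(g : MulAut S) s, ?_⟩
    push_cast
    rw [← hs]
    ext y
    simp [mul_assoc]⟩
  have hp : IsPGroup p (Subgroup.zpowers (⟨α, hα⟩ : F.autGroup S)) := by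
    intro ⟨y, hy⟩
    obtain ⟨i, rfl⟩ := hy
    refine ⟨n, Subtype.ext (Subtype.ext ?_)⟩
    push_cast
    rw [← zpow_natCast, ← zpow_mul, mul_comm, zpow_mul, zpow_natCast, hn, one_zpow]
  have hle : Subgroup.zpowers (⟨α, hα⟩ : F.autGroup S) ≤ (R : Subgroup (F.autGroup S)) := by
    haveI : (R : Subgroup (F.autGroup S)).Normal := by rw [hR]; infer_instance
    exact le_sup_left.trans (R.3 (hp.to_sup_of_normal_right R.2) le_sup_right).le
  obtain ⟨s, hs⟩ := hR.le (hle (Subgroup.mem_zpowers _))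
  exact ⟨s, hs⟩

/-- Elements of `Aut_F(S)` of `p`-power order fix the centre. -/
theorem Hyp.fixes_of_pow (h : Hyp p F) {α : MulAut S} (hα : α ∈ F.autGroup S) {n : ℕ}
    (hn : α ^ p ^ n = 1) {z : S} (hz : z ∈ Subgroup.center S) : α z = z := by
  obtain ⟨s, rfl⟩ := h.exists_conj_of_pow hα hn
  rw [MulAut.conj_apply, Subgroup.mem_center_iff.mp hz s, mul_inv_cancel_right]

/-- An element of `Aut_F(S)` stabilising `1 ≤ [S,S] ≤ Z(S)` fixes the centre. -/
theorem Hyp.fixes_of_stab (h : Hyp p F) {γ : MulAut S} (hγ : γ ∈ F.autGroup S)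
    (h1 : ∀ z ∈ Subgroup.center S, z⁻¹ * γ z ∈ der S) (h2 : ∀ c ∈ der S, γ c = c) {z : S}
    (hz : z ∈ Subgroup.center S) : γ z = z := by
  haveI : Finite (MulAut S) := Finite.of_injective (fun α : MulAut S => (α : S → S)) DFunLike.coe_injective
  set n := orderOf γ with hn
  have hn0 : n ≠ 0 := (orderOf_pos γ).ne'
  set a := n.factorization p
  have hm : (n / p ^ a).Coprime p := (Nat.coprime_ordCompl (Fact.out : p.Prime) hn0).symm
  have hγm : (γ ^ (n / p ^ a)) ^ p ^ a = 1 := by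
    rw [← pow_mul, Nat.div_mul_cancel (Nat.ordProj_dvd n p), hn, pow_orderOf_eq_one]
  have hfix1 : (γ ^ (n / p ^ a)) z = z := h.fixes_of_pow (pow_mem hγ _) hγm hz
  -- `γ ^ p ^ a` has order prime to `p`
  have hpow : ∀ j : ℕ, (γ ^ j) z = z * (z⁻¹ * γ z) ^ j := by
    intro j
    induction j with
    | zero => simp
    | succ j ih =>
      rw [pow_succ', MulAut.mul_apply, ih, map_mul, map_pow, h2 _ (h1 z hz), pow_succ', ← mul_assoc, mul_inv_cancel_left]
  have hd1 : orderOf (z⁻¹ * γ z) ∣ n / p ^ a := by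
    refine orderOf_dvd_of_pow_eq_one ?_
    have := hpow (n / p ^ a)
    rw [hfix1] at this
    exact mul_eq_left.mp this.symm
  obtain ⟨j, hj⟩ := IsPGroup.iff_orderOf.mp h.pg (z⁻¹ * γ z)
  have h3 : orderOf (z⁻¹ * γ z) = 1 := Nat.eq_one_of_dvd_coprimes (Nat.Coprime.pow_right j hm) hd1 (by rw [hj])
  exact (inv_mul_eq_one.mp (orderOf_eq_one_iff.mp h3)).symm

/-- Automorphisms of an essential subgroup preserving the centre extend to `S`. -/
theorem Hyp.exists_extend (h : Hyp p F) (hE : F.IsEssential p E) {ψ : MulAut E} (hψ : ψ ∈ F.autGroup E)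
    (hZ : ((cen S).subgroupOf E).map ψ.toMonoidHom = (cen S).subgroupOf E) :
    ∃ β ∈ F.autGroup S, ∀ y : E, ((β ⟨y, hE.1.1 y.2⟩ : S) : Ω) = ψ y := by
  obtain ⟨x, e, hx, hk, he, hxE, hko, hK, htv⟩ := h.exists_tv hE
  have hES := hE.1.1
  have hcard := h.card_ess hE
  haveI : Finite E := finite_of_le hES
  obtain ⟨i, hi⟩ := (htv.conj_c_mem_iff hψ).mpr hZ
  obtain ⟨φ, hφ, hr, hφe⟩ := F.exists_map_of_mem_autGroup hES hψ
  have hext : S ≤ extender S E φ := by
    conv_lhs => rw [← h.sup_zpowers_top hES hcard hx hxE]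
    refine sup_le (le_extender hES (F.apply_mem hφ)) (Subgroup.zpowers_le.mpr ?_)
    refine (mem_extender_iff (F.apply_mem hφ)).mpr ⟨hx, h.normalizer_le (h.cen_le_ess hE) hES hx, x ^ i,
      S.zpow_mem hx i, fun y hy => ?_⟩
    have hc : ∀ (j : ℤ) (w : E), (((conjOn h (h.cen_le_ess hE) hES hx ^ j) w : E) : Ω) = x ^ j * w * (x ^ j)⁻¹ := by
      intro j w
      rw [conjOn, ← map_zpow]
      rfl
    rw [hφe, hφe, ← hc, show conjOn h (h.cen_le_ess hE) hES hx ^ i = ψ * conjOn h (h.cen_le_ess hE) hES hx * ψ⁻¹ from hi]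
    simp only [MulAut.mul_apply, MulAut.inv_apply_self]
    rfl
  obtain ⟨χ, hχ, hχe⟩ := (h.sat.isReceptive_of_isFullyNormalized h.pg hE.2.1).2 E φ hφ hr
  have hχ' : χ.comp (Subgroup.inclusion hext) ∈ F.Hom S := F.restrict_mem hχ hext
  set χ' := χ.comp (Subgroup.inclusion hext) with hχ'def
  have hrange : χ'.range = S := by
    haveI : Finite χ'.range := finite_of_le (F.range_le hχ')
    refine Subgroup.eq_of_le_of_card_ge (F.range_le hχ') (le_of_eq ?_)
    rw [← Nat.card_congr (MonoidHom.ofInjective (F.injective_of_mem hχ')).toEquiv]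
  refine ⟨F.isoOf hχ' hrange, F.isoOf_mem_autGroup hχ' hrange, fun y => ?_⟩
  show χ ⟨y, hext (hES y.2)⟩ = _
  rw [hχe _ y.2, hφe]

/-- Automorphisms of `S` preserving a subgroup restrict to it. -/
theorem exists_restrict {β : MulAut S} (hβ : β ∈ F.autGroup S) {M : Subgroup Ω} (hMS : M ≤ S)
    (hinv : ∀ y : M, ((β ⟨y, hMS y.2⟩ : S) : Ω) ∈ M) :
    ∃ ψ ∈ F.autGroup M, ∀ y : M, ((ψ y : M) : Ω) = β ⟨y, hMS y.2⟩ := by
  obtain ⟨φ, hφ, -, hφe⟩ := F.exists_map_of_mem_autGroup le_rfl hβ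
  haveI : Finite M := finite_of_le hMS
  have hφ' : φ.comp (Subgroup.inclusion hMS) ∈ F.Hom M := F.restrict_mem hφ hMS
  set φ' := φ.comp (Subgroup.inclusion hMS) with hdef
  have he : ∀ y : M, φ' y = β ⟨y, hMS y.2⟩ := fun y => hφe _
  have hrange : φ'.range = M := by
    have hle : φ'.range ≤ M := by rintro _ ⟨y, rfl⟩; rw [he]; exact hinv y
    refine Subgroup.eq_of_le_of_card_ge hle (le_of_eq ?_)
    rw [← Nat.card_congr (MonoidHom.ofInjective (F.injective_of_mem hφ')).toEquiv]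
  exact ⟨F.isoOf hφ' hrange, F.isoOf_mem_autGroup hφ' hrange, fun y => he y⟩

/-- The invariance criterion. -/
theorem Hyp.eq_bot_of_invariant (h : Hyp p F) {Q : Subgroup Ω} (hQS : Q ≤ S)
    (hS' : ∀ α ∈ F.autGroup S, ∀ y : S, (y : Ω) ∈ Q → ((α y : S) : Ω) ∈ Q)
    (hE' : ∀ E, F.IsEssential p E → Q ≤ E ∧ ∀ α ∈ F.autGroup E, ∀ y : E, (y : Ω) ∈ Q → ((α y : E) : Ω) ∈ Q) :
    Q = ⊥ := by
  refine le_bot_iff.mp (h.core ▸ IsNormal.le_core (h.sat.isNormal_of_invariant h.pg fun P hP => ?_))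
  have key : ∀ (P : Subgroup Ω), P ≤ S → ∀ α : MulAut P, (∀ y : P, (y : Ω) ∈ Q → ((α y : P) : Ω) ∈ Q) →
      (Q.subgroupOf P).map α.toMonoidHom = Q.subgroupOf P := by
    intro P hP α ha
    haveI : Finite P := finite_of_le hP
    refine Subgroup.eq_of_le_of_card_ge ?_ (le_of_eq ?_)
    · rintro _ ⟨y, hy, rfl⟩; exact ha y hy
    · exact Nat.card_congr ((Q.subgroupOf P).equivMapOfInjective _ α.injective).toEquiv
  rcases hP with rfl | hP
  · exact ⟨hQS, fun α hα => key P le_rfl α (hS' α hα)⟩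
  · exact ⟨(hE' P hP).1, fun α hα => key P hP.1.1 α ((hE' P hP).2 α hα)⟩

theorem Hyp.cen_ne_S (h : Hyp p F) : cen S ≠ S := fun e => by
  have := h.card_S
  rw [e] at this
  have hpos : 0 < Nat.card S := Nat.card_pos
  have h2 : 4 ≤ p ^ 2 := by nlinarith [(Fact.out : p.Prime).two_le]
  nlinarith

theorem Hyp.exists_essential (h : Hyp p F) : ∃ E, F.IsEssential p E := by
  by_contra hh
  push Not at hh
  have := h.eq_bot_of_invariant (Q := S) le_rfl (fun α _ y _ => (α y).2) fun E hE => absurd hE (hh E)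
  exact h.cen_ne_S (le_antisymm inf_le_left (by intro x hx; rw [this] at hx; rw [Subgroup.mem_bot.mp hx]; exact one_mem _))

end Cfsg.SmallCentre
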