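import Cfsg.Agent.Lib.Fusion.SmallCentre.Transvection
import Cfsg.Agent.Lib.Fusion.Center
import Mathlib.GroupTheory.PGroup

/-!
Saturated fusion systems on `p`-groups whose centre has index `p ^ 2`: essential subgroups and the
automorphisms of `S`.
-/

set_option autoImplicit false
set_option linter.unusedSectionVars false

open scoped commutatorElement

namespace Cfsg.SmallCentre

open Cfsg FusionSystem

variable {Ω : Type*} [Group Ω] {S : Subgroup Ω} [Finite S] {p : ℕ} [Fact p.Prime]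

/-- The centre of `S` inside the ambient group. -/
abbrev cen (S : Subgroup Ω) : Subgroup Ω := S ⊓ Subgroup.centralizer (S : Set Ω)

/-- The standing hypotheses. -/
structure Hyp (p : ℕ) (F : FusionSystem S) : Prop where
  pg : IsPGroup p S
  sat : F.IsSaturated p
  idx : (Subgroup.center S).index = p ^ 2
  core : F.core = ⊥

variable {F : FusionSystem S}

theorem cen_le : cen S ≤ S := inf_le_left

theorem mem_cen {x : Ω} : x ∈ cen S ↔ ∃ hx : x ∈ S, (⟨x, hx⟩ : S) ∈ Subgroup.center S := by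
  constructor
  · rintro ⟨hx, hc⟩
    exact ⟨hx, Subgroup.mem_center_iff.mpr fun g => Subtype.ext (Subgroup.mem_centralizer_iff.mp hc g g.2)⟩
  · rintro ⟨hx, hc⟩
    exact ⟨hx, Subgroup.mem_centralizer_iff.mpr fun g hg =>
      congrArg Subtype.val (Subgroup.mem_center_iff.mp hc ⟨g, hg⟩)⟩

theorem cen_comm {z x : Ω} (hz : z ∈ cen S) (hx : x ∈ S) : x * z = z * x := Subgroup.mem_centralizer_iff.mp hz.2 x hx

theorem card_cen : Nat.card (cen S) = Nat.card (Subgroup.center S) := by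
  refine Nat.card_congr ⟨fun x => ⟨⟨x, x.2.1⟩, (mem_cen.mp x.2).2⟩,
    fun x => ⟨(x : S), mem_cen.mpr ⟨(x : S).2, x.2⟩⟩, fun _ => rfl, fun _ => rfl⟩

theorem Hyp.card_S (h : Hyp p F) : Nat.card S = p ^ 2 * Nat.card (cen S) := by
  rw [card_cen, ← Subgroup.card_mul_index (Subgroup.center S), h.idx, mul_comm]

theorem Hyp.commutator_le (h : Hyp p F) {a b : Ω} (ha : a ∈ S) (hb : b ∈ S) : ⁅a, b⁆ ∈ cen S := by
  have hq : Nat.card (S ⧸ Subgroup.center S) = p ^ 2 := by rw [← Subgroup.index_eq_card, h.idx]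
  refine mem_cen.mpr ⟨S.mul_mem (S.mul_mem (S.mul_mem ha hb) (S.inv_mem ha)) (S.inv_mem hb), ?_⟩
  rw [← QuotientGroup.eq_one_iff]
  show ((⁅(⟨a, ha⟩ : S), ⟨b, hb⟩⁆ : S) : S ⧸ Subgroup.center S) = 1
  rw [← QuotientGroup.mk'_apply, map_commutatorElement, commutatorElement_eq_one_iff_mul_comm]
  exact IsPGroup.commutative_of_card_eq_prime_sq hq _ _

theorem Hyp.conj_eq (h : Hyp p F) {a b : Ω} (ha : a ∈ S) (hb : b ∈ S) : a * b * a⁻¹ = ⁅a, b⁆ * b := by
  rw [commutatorElement_def]; group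

theorem Hyp.comm_mul_left (h : Hyp p F) {a a' b : Ω} (ha : a ∈ S) (ha' : a' ∈ S) (hb : b ∈ S) :
    ⁅a * a', b⁆ = ⁅a', b⁆ * ⁅a, b⁆ := by
  rw [show ⁅a * a', b⁆ = a * ⁅a', b⁆ * a⁻¹ * ⁅a, b⁆ by simp only [commutatorElement_def]; group,
    cen_comm (h.commutator_le ha' hb) ha, mul_inv_cancel_right]

theorem Hyp.comm_mul_right (h : Hyp p F) {a b b' : Ω} (ha : a ∈ S) (hb : b ∈ S) (hb' : b' ∈ S) :
    ⁅a, b * b'⁆ = ⁅a, b⁆ * ⁅a, b'⁆ := by
  rw [show ⁅a, b * b'⁆ = ⁅a, b⁆ * (b * ⁅a, b'⁆ * b⁻¹) by simp only [commutatorElement_def]; group,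
    cen_comm (h.commutator_le ha hb') hb, mul_inv_cancel_right]

theorem Hyp.normalizer_le (h : Hyp p F) {M : Subgroup Ω} (hM : cen S ≤ M) (hMS : M ≤ S) :
    S ≤ Subgroup.normalizer (M : Set Ω) := by
  intro g hg
  have key : ∀ g ∈ S, ∀ m ∈ M, g * m * g⁻¹ ∈ M := fun g hg m hm => by
    rw [h.conj_eq hg (hMS hm)]
    exact M.mul_mem (hM (h.commutator_le hg (hMS hm))) hm
  refine Subgroup.mem_normalizer_iff.mpr fun m => ⟨key g hg m, fun hm => ?_⟩
  have := key g⁻¹ (S.inv_mem hg) _ hm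
  simpa [mul_assoc] using this

/-- A subgroup of order `p |Z(S)|` containing the centre is generated by it and any further element. -/
theorem Hyp.sup_zpowers_eq (h : Hyp p F) {M : Subgroup Ω} (hM : cen S ≤ M) (hMS : M ≤ S)
    (hcard : Nat.card M = p * Nat.card (cen S)) {e : Ω} (he : e ∈ M) (hez : e ∉ cen S) :
    cen S ⊔ Subgroup.zpowers e = M := by
  have hle : cen S ⊔ Subgroup.zpowers e ≤ M := sup_le hM (Subgroup.zpowers_le.mpr he)
  haveI : Finite M := finite_of_le hMS
  haveI : Finite ↥(cen S ⊔ Subgroup.zpowers e) := finite_of_le (hle.trans hMS)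
  obtain ⟨r, hr⟩ := Subgroup.card_dvd_of_le (le_sup_left : cen S ≤ cen S ⊔ Subgroup.zpowers e)
  have hd := Subgroup.card_dvd_of_le hle
  rw [hr, hcard, mul_comm p] at hd
  have hpos : 0 < Nat.card (cen S) := by
    haveI : Finite (cen S) := finite_of_le inf_le_left
    exact Nat.card_pos
  rcases (Nat.dvd_prime Fact.out).mp (Nat.dvd_of_mul_dvd_mul_left hpos hd) with e1 | e1
  · refine absurd ?_ hez
    rw [e1, mul_one] at hr
    have heq := Subgroup.eq_of_le_of_card_ge (le_sup_left : cen S ≤ cen S ⊔ Subgroup.zpowers e) hr.le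
    rw [heq]
    exact Subgroup.mem_sup_right (Subgroup.mem_zpowers e)
  · exact Subgroup.eq_of_le_of_card_ge hle (by rw [hr, e1, hcard, mul_comm])

theorem Hyp.abelian (h : Hyp p F) {M : Subgroup Ω} (hM : cen S ≤ M) (hMS : M ≤ S)
    (hcard : Nat.card M = p * Nat.card (cen S)) {a b : Ω} (ha : a ∈ M) (hb : b ∈ M) : a * b = b * a := by
  by_cases haz : a ∈ cen S
  · exact (cen_comm haz (hMS hb)).symm
  have hle : M ≤ Subgroup.centralizer {a} := by
    rw [← h.sup_zpowers_eq hM hMS hcard ha haz]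
    exact sup_le (fun z hz => Subgroup.mem_centralizer_singleton_iff.mpr (cen_comm hz (hMS ha)).symm)
      (Subgroup.zpowers_le.mpr (Subgroup.mem_centralizer_singleton_iff.mpr rfl))
  exact (Subgroup.mem_centralizer_singleton_iff.mp (hle hb)).symm

theorem Hyp.sup_zpowers_top (h : Hyp p F) {M : Subgroup Ω} (hMS : M ≤ S)
    (hcard : Nat.card M = p * Nat.card (cen S)) {x : Ω} (hx : x ∈ S) (hxM : x ∉ M) :
    M ⊔ Subgroup.zpowers x = S := by
  have hle : M ⊔ Subgroup.zpowers x ≤ S := sup_le hMS (Subgroup.zpowers_le.mpr hx)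
  haveI : Finite M := finite_of_le hMS
  haveI : Finite ↥(M ⊔ Subgroup.zpowers x) := finite_of_le hle
  obtain ⟨r, hr⟩ := Subgroup.card_dvd_of_le (le_sup_left : M ≤ M ⊔ Subgroup.zpowers x)
  have hd := Subgroup.card_dvd_of_le hle
  rw [hr, h.card_S, hcard] at hd
  have hpos : 0 < p * Nat.card (cen S) := hcard ▸ Nat.card_pos
  rw [show p ^ 2 * Nat.card (cen S) = p * Nat.card (cen S) * p by ring] at hd
  rcases (Nat.dvd_prime Fact.out).mp (Nat.dvd_of_mul_dvd_mul_left hpos hd) with e1 | e1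
  · refine absurd ?_ hxM
    rw [e1, mul_one] at hr
    rw [Subgroup.eq_of_le_of_card_ge (le_sup_left : M ≤ M ⊔ Subgroup.zpowers x) hr.le]
    exact Subgroup.mem_sup_right (Subgroup.mem_zpowers x)
  · exact Subgroup.eq_of_le_of_card_ge hle (by rw [hr, e1, hcard, h.card_S]; exact le_of_eq (by ring))

variable {E : Subgroup Ω}

theorem Hyp.lt_S (h : Hyp p F) (hE : F.IsEssential p E) : E < S := hE.lt h.pg h.sat

theorem Hyp.cen_le_ess (h : Hyp p F) (hE : F.IsEssential p E) : cen S ≤ E := by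
  refine le_trans ?_ hE.1.centralizerIn_le_self
  intro z hz
  exact ⟨hz.1, Subgroup.mem_centralizer_iff.mpr fun e he => Subgroup.mem_centralizer_iff.mp hz.2 e (hE.1.1 he)⟩

theorem Hyp.card_ess (h : Hyp p F) (hE : F.IsEssential p E) : Nat.card E = p * Nat.card (cen S) := by
  have hlt := h.lt_S hE
  haveI : Finite E := finite_of_le hlt.le
  have hne : cen S ≠ E := by
    intro e
    refine hlt.ne (le_antisymm hlt.le (le_trans ?_ hE.1.centralizerIn_le_self))
    exact fun s hs => ⟨hs, Subgroup.mem_centralizer_iff.mpr fun z hz => (cen_comm (e ▸ hz) hs).symm⟩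
  obtain ⟨r, hr⟩ := Subgroup.card_dvd_of_le (h.cen_le_ess hE)
  have hd := Subgroup.card_dvd_of_le hlt.le
  rw [hr, h.card_S, mul_comm (p ^ 2)] at hd
  have hpos : 0 < Nat.card (cen S) := by
    haveI : Finite (cen S) := finite_of_le inf_le_left
    exact Nat.card_pos
  obtain ⟨i, hi, rfl⟩ := (Nat.dvd_prime_pow Fact.out).mp (Nat.dvd_of_mul_dvd_mul_left hpos hd)
  interval_cases i
  · exact absurd (Subgroup.eq_of_le_of_card_ge (h.cen_le_ess hE) (by rw [hr, pow_zero, mul_one])) hne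
  · rw [hr, pow_one, mul_comm]
  · exact absurd (Subgroup.eq_of_le_of_card_ge hlt.le (by rw [hr, h.card_S, mul_comm])) hlt.ne

/-- Conjugation by `x ∈ S` on a subgroup containing the centre. -/
def conjOn (h : Hyp p F) (hM : cen S ≤ E) (hMS : E ≤ S) {x : Ω} (hx : x ∈ S) : MulAut E :=
  E.normalizerMonoidHom ⟨x, h.normalizer_le hM hMS hx⟩

theorem exists_not_mem_of_lt {A B : Subgroup Ω} (h : A < B) : ∃ x ∈ B, x ∉ A :=
  Set.exists_of_ssubset h

/-- The local data of an essential subgroup. -/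
theorem Hyp.exists_tv (h : Hyp p F) (hE : F.IsEssential p E) :
    ∃ (x e : Ω) (hx : x ∈ S) (hk : ⁅x, e⁆ ∈ E) (_ : e ∈ E),
      x ∉ E ∧ orderOf ⁅x, e⁆ = p ∧ ⁅S, S⁆ = Subgroup.zpowers ⁅x, e⁆ ∧
      TV p (F.autGroup E) (conjOn h (h.cen_le_ess hE) hE.1.1 hx) ((cen S).subgroupOf E) ⟨⁅x, e⁆, hk⟩ := by
  have hES := hE.1.1
  have hZE := h.cen_le_ess hE
  have hcard := h.card_ess hE
  haveI : Finite E := finite_of_le hES
  have hpp : p.Prime := Fact.out
  obtain ⟨x, hx, hxE⟩ := exists_not_mem_of_lt (h.lt_S hE)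
  obtain ⟨e, he, hez⟩ : ∃ e ∈ E, e ∉ cen S := by
    by_contra hh
    push Not at hh
    haveI : Finite (cen S) := finite_of_le inf_le_left
    have hle := Subgroup.eq_of_le_of_card_ge hZE (Subgroup.card_le_of_le hh)
    have hpos : 0 < Nat.card (cen S) := by rw [hle]; exact Nat.card_pos
    rw [← hle] at hcard
    nlinarith [hpp.two_le]
  have hab : ∀ a b : E, a * b = b * a := fun a b => Subtype.ext (h.abelian hZE hES hcard a.2 b.2)
  have hk : ⁅x, e⁆ ∈ cen S := h.commutator_le hx (hES he)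
  set k := ⁅x, e⁆ with hkdef
  have hEsup := h.sup_zpowers_eq hZE hES hcard he hez
  have hSsup := h.sup_zpowers_top hES hcard hx hxE
  -- all commutators are powers of `k`
  have hL : ∀ a ∈ S, ∀ b ∈ S, ⁅a, b⁆ ∈ Subgroup.zpowers k := by
    have right : ∀ a ∈ S, ⁅a, e⁆ ∈ Subgroup.zpowers k → ⁅a, x⁆ ∈ Subgroup.zpowers k →
        ∀ b ∈ S, ⁅a, b⁆ ∈ Subgroup.zpowers k := by
      intro a ha hae hax
      let B : Subgroup Ω :=
        { carrier := {b | b ∈ S ∧ ⁅a, b⁆ ∈ Subgroup.zpowers k}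
          one_mem' := ⟨S.one_mem, by simp⟩
          mul_mem' := fun {u v} hu hv => ⟨S.mul_mem hu.1 hv.1, by
            rw [h.comm_mul_right ha hu.1 hv.1]; exact Subgroup.mul_mem _ hu.2 hv.2⟩
          inv_mem' := fun {u} hu => ⟨S.inv_mem hu.1, by
            have h1 : ⁅a, u⁻¹⁆ * ⁅a, u⁆ = 1 := by rw [← h.comm_mul_right ha (S.inv_mem hu.1) hu.1]; simp
            rw [eq_inv_of_mul_eq_one_left h1]
            exact Subgroup.inv_mem _ hu.2⟩ }
      have : S ≤ B := by
        conv_lhs => rw [← hSsup, ← hEsup]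
        refine sup_le (sup_le (fun z hz => ⟨hz.1, ?_⟩) (Subgroup.zpowers_le.mpr ⟨hES he, hae⟩))
          (Subgroup.zpowers_le.mpr ⟨hx, hax⟩)
        rw [commutatorElement_eq_one_iff_mul_comm.mpr (cen_comm hz ha)]
        exact Subgroup.one_mem _
      exact fun b hb => (this hb).2
    have hxx : ∀ b ∈ S, ⁅x, b⁆ ∈ Subgroup.zpowers k :=
      right x hx (Subgroup.mem_zpowers k) (by simp)
    have hee : ∀ b ∈ S, ⁅e, b⁆ ∈ Subgroup.zpowers k := right e (hES he) (by simp) (by
      rw [← commutatorElement_inv]; exact Subgroup.inv_mem _ (Subgroup.mem_zpowers k))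
    intro a ha
    refine right a ha ?_ ?_
    · rw [← commutatorElement_inv]; exact Subgroup.inv_mem _ (hee a ha)
    · rw [← commutatorElement_inv]; exact Subgroup.inv_mem _ (hxx a ha)
  have hidx : ((cen S).subgroupOf E).index = p := by
    have e1 := Subgroup.card_mul_index ((cen S).subgroupOf E)
    rw [Nat.card_congr (Subgroup.subgroupOfEquivOfLe hZE).toEquiv, hcard, mul_comm p] at e1
    exact Nat.eq_of_mul_eq_mul_left (by haveI : Finite (cen S) := finite_of_le inf_le_left; exact Nat.card_pos) e1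
  haveI : ((cen S).subgroupOf E).Normal :=
    ⟨fun n hn g => by rw [hab g n, mul_inv_cancel_right]; exact hn⟩
  have hep : e ^ p ∈ cen S := by
    have := ((cen S).subgroupOf E).pow_index_mem (⟨e, he⟩ : E)
    rw [hidx] at this
    exact this
  have hkne : k ≠ 1 := fun e1 => hez (by
    refine ⟨hES he, Subgroup.mem_centralizer_iff.mpr ?_⟩
    have hle : S ≤ Subgroup.centralizer {e} := by
      conv_lhs => rw [← hSsup]
      exact sup_le (fun y hy => Subgroup.mem_centralizer_singleton_iff.mpr (h.abelian hZE hES hcard hy he))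
        (Subgroup.zpowers_le.mpr (Subgroup.mem_centralizer_singleton_iff.mpr
          (commutatorElement_eq_one_iff_mul_comm.mp e1)))
    exact fun y hy => Subgroup.mem_centralizer_singleton_iff.mp (hle hy))
  have hkp : k ^ p = 1 := by
    have : ∀ n : ℕ, ⁅x, e ^ n⁆ = k ^ n := by
      intro n
      induction n with
      | zero => simp
      | succ n ih => rw [pow_succ, h.comm_mul_right hx (S.pow_mem (hES he) n) (hES he), ih, pow_succ]
    rw [← this, commutatorElement_eq_one_iff_mul_comm]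
    exact cen_comm hep hx
  have hko : orderOf k = p := orderOf_eq_prime hkp hkne
  have hK : ⁅S, S⁆ = Subgroup.zpowers k :=
    le_antisymm (Subgroup.commutator_le.mpr hL)
      (Subgroup.zpowers_le.mpr (Subgroup.commutator_mem_commutator hx (hES he)))
  refine ⟨x, e, hx, hZE hk, he, hxE, hko, hK, ?_⟩
  set c := conjOn h hZE hES hx with hc
  have happ : ∀ y : E, ((c y : E) : Ω) = x * y * x⁻¹ := fun y => rfl
  have hcI : c ∈ autInducedBy S E := mem_autInducedBy_iff.mpr ⟨x, hx, h.normalizer_le hZE hES hx, fun y => rfl⟩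
  have hcA : c ∈ F.autGroup E := autInducedBy_le_autGroup hES hcI
  have hI : autInducedBy S E ≤ Subgroup.zpowers c := by
    intro α hα
    obtain ⟨g, hg, hgN, hge⟩ := mem_autInducedBy_iff.mp hα
    let D : Subgroup Ω :=
      { carrier := {g | g ∈ S ∧ ∃ β ∈ Subgroup.zpowers c, ∀ y : E, ((β y : E) : Ω) = g * y * g⁻¹}
        one_mem' := ⟨S.one_mem, 1, Subgroup.one_mem _, fun y => by simp⟩
        mul_mem' := fun {u v} ⟨hu, β, hβ, hb⟩ ⟨hv, γ, hγ, hg⟩ => ⟨S.mul_mem hu hv, β * γ,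
          Subgroup.mul_mem _ hβ hγ, fun y => by rw [MulAut.mul_apply, hb, hg]; group⟩
        inv_mem' := fun {u} ⟨hu, β, hβ, hb⟩ => ⟨S.inv_mem hu, β⁻¹, Subgroup.inv_mem _ hβ, fun y => by
          have := hb (β⁻¹ y)
          rw [MulAut.apply_inv_self] at this
          rw [this]; group⟩ }
    have hD : S ≤ D := by
      conv_lhs => rw [← hSsup]
      refine sup_le (fun y hy => ⟨hES hy, 1, Subgroup.one_mem _, fun z => ?_⟩)
        (Subgroup.zpowers_le.mpr ⟨hx, c, Subgroup.mem_zpowers c, fun z => rfl⟩)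
      rw [h.abelian hZE hES hcard hy z.2, mul_inv_cancel_right]; rfl
    obtain ⟨-, β, hβ, hb⟩ := hD hg
    have : α = β := MulEquiv.ext fun y => Subtype.ext ((hge y).trans (hb y).symm)
    rwa [this]
  refine ⟨h.pg.to_le hES, hab, hcA, ?_, ?_, ?_, ?_, ?_, ?_, hidx⟩
  · intro U hU hUp hcU
    obtain ⟨-, R, hR⟩ := h.sat.isFullyAutomized_of_isFullyNormalized h.pg hE.2.1
    haveI := finite_autGroup (F := F) hES
    have h1 : (R : Subgroup (F.autGroup E)) ≤ U.subgroupOf (F.autGroup E) := by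
      rw [hR]
      exact fun a ha => (Subgroup.zpowers_le.mpr hcU) (hI ha)
    have h2 := R.3 (hUp.comap_of_injective (F.autGroup E).subtype Subtype.coe_injective) h1
    intro a ha
    have : (⟨a, hU ha⟩ : F.autGroup E) ∈ (R : Subgroup (F.autGroup E)) := h2 ▸ ha
    rw [hR] at this
    exact hI this
  · by_contra hh
    push Not at hh
    haveI := finite_autGroup (F := F) hES
    have hr := (hE.isRadical h.pg h.sat).2
    set P := (Subgroup.zpowers c).subgroupOf (F.autGroup E) with hP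
    haveI hn : P.Normal := ⟨fun a ha g => by
      obtain ⟨i, hi⟩ := Subgroup.mem_subgroupOf.mp ha
      rw [hP, Subgroup.mem_subgroupOf]
      push_cast
      rw [← hi, ← conj_zpow]
      exact Subgroup.zpow_mem _ (hh g g.2) _⟩
    have hPp : IsPGroup p P := by
      refine ((isPGroup_autInducedBy (P := E) h.pg).to_le ?_).comap_of_injective (F.autGroup E).subtype
        Subtype.coe_injective
      exact Subgroup.zpowers_le.mpr hcI
    have h1 : c ∈ Inn E := by
      rw [← hr]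
      exact ⟨⟨c, hcA⟩, le_sSup (show P ∈ {Q : Subgroup (F.autGroup E) | Q.Normal ∧ IsPGroup p Q} from ⟨hn, hPp⟩)
        (Subgroup.mem_zpowers c), rfl⟩
    obtain ⟨g, hg⟩ := h1
    refine hkne ?_
    have := congrArg (fun a : MulAut E => ((a ⟨e, he⟩ : E) : Ω)) hg
    simp only [happ] at this
    have h2 : ((MulAut.conj g ⟨e, he⟩ : E) : Ω) = e := by
      rw [MulAut.conj_apply, hab g, mul_inv_cancel_right]
    rw [h2] at this
    rw [hkdef, commutatorElement_def, ← this, mul_inv_cancel]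
  · intro y
    constructor
    · intro hy
      have h1 : x * (y : Ω) * x⁻¹ = y := (happ y).symm.trans (congrArg Subtype.val hy)
      refine ⟨hES y.2, Subgroup.mem_centralizer_iff.mpr ?_⟩
      have hle : S ≤ Subgroup.centralizer {(y : Ω)} := by
        conv_lhs => rw [← hSsup]
        exact sup_le (fun z hz => Subgroup.mem_centralizer_singleton_iff.mpr (h.abelian hZE hES hcard hz y.2))
          (Subgroup.zpowers_le.mpr (Subgroup.mem_centralizer_singleton_iff.mpr (mul_inv_eq_iff_eq_mul.mp h1)))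
      exact fun z hz => Subgroup.mem_centralizer_singleton_iff.mp (hle hz)
    · intro hy
      refine Subtype.ext ?_
      rw [happ, cen_comm (Subgroup.mem_subgroupOf.mp hy) hx, mul_inv_cancel_right]
  · intro y
    obtain ⟨i, hi⟩ := hL x hx y (hES y.2)
    refine ⟨i, Subtype.ext ?_⟩
    push_cast
    rw [happ, h.conj_eq hx (hES y.2), ← hi, h.abelian hZE hES hcard (E.zpow_mem (hZE hk) i) y.2, inv_mul_cancel_left]
  · exact hk
  · rw [← hko, ← Subgroup.orderOf_coe (⟨k, hZE hk⟩ : E)]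

end Cfsg.SmallCentre
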