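import Cfsg.Agent.Lib.Fusion.SmallCentre.Maps
import Cfsg.Agent.Lib.Fusion.Hyperfocal
import Mathlib.Data.Int.GCD

/-!
For `p = 2` and hyperfocal subgroup `S`: the centre of `S` has order `2`.
-/

set_option autoImplicit false
set_option linter.unusedSectionVars false

open scoped commutatorElement Pointwise

namespace Cfsg.SmallCentre

open Cfsg FusionSystem

variable {Ω : Type*} [Group Ω] {S : Subgroup Ω} [Finite S] {F : FusionSystem S} {E M : Subgroup Ω}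

/-- A subgroup of index `2` over the centre with an involution outside the centre. -/
structure InvMax (S M : Subgroup Ω) : Prop where
  cen_le : cen S ≤ M
  le : M ≤ S
  card : Nat.card M = 2 * Nat.card (cen S)
  inv : ∃ a ∈ M, a ∉ cen S ∧ a * a = 1

theorem zpow_of_sq {G : Type*} [Group G] {a : G} (ha : a * a = 1) (i : ℤ) : a ^ i = 1 ∨ a ^ i = a := by
  have hk : a ^ (2 : ℤ) = 1 := by rw [zpow_two, ha]
  rcases Int.even_or_odd' i with ⟨j, rfl | rfl⟩
  · left; rw [zpow_mul, hk, one_zpow]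
  · right; rw [zpow_add, zpow_mul, hk, one_zpow, one_mul, zpow_one]

theorem exists_mul_of_mem_sup {H K : Subgroup Ω} (hK : K ≤ Subgroup.normalizer (H : Set Ω)) {x : Ω}
    (hx : x ∈ H ⊔ K) : ∃ a ∈ H, ∃ b ∈ K, x = a * b := by
  have : x ∈ ((H : Set Ω) * (K : Set Ω)) := by
    rw [← Subgroup.coe_mul_of_right_le_normalizer_left H K hK]; exact hx
  obtain ⟨a, ha, b, hb, rfl⟩ := Set.mem_mul.mp this
  exact ⟨a, ha, b, hb, rfl⟩

theorem card_sup_le {H K : Subgroup Ω} [Finite H] [Finite K] (hK : K ≤ Subgroup.normalizer (H : Set Ω)) :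
    Nat.card ↥(H ⊔ K) ≤ Nat.card H * Nat.card K := by
  rw [← Nat.card_prod]
  refine Nat.card_le_card_of_surjective (fun q => (⟨(q.1 : Ω) * q.2, Subgroup.mul_mem_sup q.1.2 q.2.2⟩ : ↥(H ⊔ K))) fun x => ?_
  obtain ⟨a, ha, b, hb, e⟩ := exists_mul_of_mem_sup hK x.2
  exact ⟨(⟨a, ha⟩, ⟨b, hb⟩), Subtype.ext e.symm⟩

/-- Membership in a subgroup from two coprime powers. -/
theorem mem_of_pow_coprime {G : Type*} [Group G] (H : Subgroup G) {g : G} {m n : ℕ} (hmn : m.Coprime n)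
    (hm : g ^ m ∈ H) (hn : g ^ n ∈ H) : g ∈ H := by
  have e : g = (g ^ m) ^ Nat.gcdA m n * (g ^ n) ^ Nat.gcdB m n := by
    rw [← zpow_natCast g m, ← zpow_natCast g n, ← zpow_mul, ← zpow_mul, ← zpow_add, ← Nat.gcd_eq_gcd_ab, hmn.gcd_eq_one]
    simp
  rw [e]
  exact H.mul_mem (H.zpow_mem hm _) (H.zpow_mem hn _)

theorem apply_mem_cen (α : MulAut S) {z : Ω} (hz : z ∈ cen S) : ((α ⟨z, hz.1⟩ : S) : Ω) ∈ cen S :=
  mem_cen.mpr ⟨(α _).2, apply_mem_center α (mem_cen.mp hz).2⟩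

/-- The image of a subgroup of `S` under an automorphism of `S`. -/
def img (α : MulAut S) (M : Subgroup Ω) : Subgroup Ω := ((M.subgroupOf S).map α.toMonoidHom).map S.subtype

theorem img_le (α : MulAut S) (M : Subgroup Ω) : img α M ≤ S := Subgroup.map_subtype_le _

theorem mem_img {α : MulAut S} {M : Subgroup Ω} {y : Ω} :
    y ∈ img α M ↔ ∃ x : S, (x : Ω) ∈ M ∧ ((α x : S) : Ω) = y := by
  constructor
  · rintro ⟨_, ⟨x, hx, rfl⟩, rfl⟩; exact ⟨x, hx, rfl⟩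
  · rintro ⟨x, hx, rfl⟩; exact ⟨_, ⟨x, hx, rfl⟩, rfl⟩

theorem img_mul (α β : MulAut S) (M : Subgroup Ω) : img (α * β) M = img α (img β M) := by
  ext y
  rw [mem_img, mem_img]
  constructor
  · rintro ⟨x, hx, rfl⟩
    exact ⟨β x, mem_img.mpr ⟨x, hx, rfl⟩, rfl⟩
  · rintro ⟨x, hx, rfl⟩
    obtain ⟨w, hw, e⟩ := mem_img.mp hx
    exact ⟨w, hw, by rw [MulAut.mul_apply, show β w = x from Subtype.ext e]⟩

theorem img_one {M : Subgroup Ω} (hM : M ≤ S) : img (1 : MulAut S) M = M := by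
  ext y
  rw [mem_img]
  exact ⟨fun ⟨x, hx, e⟩ => e ▸ hx, fun hy => ⟨⟨y, hM hy⟩, hy, rfl⟩⟩

variable (h : Hyp 2 F)
include h

theorem InvMax.img (hM : InvMax S M) (α : MulAut S) : InvMax S (img α M) := by
  refine ⟨fun z hz => mem_img.mpr ⟨α⁻¹ ⟨z, hz.1⟩, hM.cen_le (apply_mem_cen α⁻¹ hz), by rw [MulAut.apply_inv_self]⟩,
    img_le α M, ?_, ?_⟩
  · rw [← hM.card, SmallCentre.img, Subgroup.card_subtype,
      ← Nat.card_congr ((M.subgroupOf S).equivMapOfInjective _ α.injective).toEquiv,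
      Nat.card_congr (Subgroup.subgroupOfEquivOfLe hM.le).toEquiv]
  · obtain ⟨a, ha, hac, ha2⟩ := hM.inv
    refine ⟨_, mem_img.mpr ⟨⟨a, hM.le ha⟩, ha, rfl⟩, fun hc => hac ?_, ?_⟩
    · have h1 := apply_mem_cen α⁻¹ hc
      rwa [show (⟨((α ⟨a, hM.le ha⟩ : S) : Ω), hc.1⟩ : S) = α ⟨a, hM.le ha⟩ from Subtype.ext rfl,
        MulAut.inv_apply_self] at h1
    · rw [← Subgroup.coe_mul, ← map_mul, show (⟨a, hM.le ha⟩ : S) * ⟨a, hM.le ha⟩ = 1 from Subtype.ext ha2,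
        map_one, Subgroup.coe_one]

theorem InvMax.eq_of_mem (hM : InvMax S M) {M' : Subgroup Ω} (hM' : InvMax S M') {a : Ω} (ha : a ∈ M)
    (ha' : a ∈ M') (hac : a ∉ cen S) : M = M' :=
  (h.sup_zpowers_eq hM.cen_le hM.le hM.card ha hac).symm.trans
    (h.sup_zpowers_eq hM'.cen_le hM'.le hM'.card ha' hac)

theorem InvMax.comm_eq (hM₁ : InvMax S M) {M₂ : Subgroup Ω} (hM₂ : InvMax S M₂) (hne : M ≠ M₂) {k : Ω}
    (hK : ⁅S, S⁆ = Subgroup.zpowers k) (hk2 : k * k = 1) {a b : Ω} (ha : a ∈ M) (hac : a ∉ cen S) (hb : b ∈ M₂)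
    (hbc : b ∉ cen S) : ⁅a, b⁆ = k := by
  have haS := hM₁.le ha
  have hbS := hM₂.le hb
  have hbM : b ∉ M := fun hm => hne (hM₁.eq_of_mem h hM₂ hm hb hbc)
  obtain ⟨i, hi⟩ := hK.le (Subgroup.commutator_mem_commutator haS hbS)
  rcases zpow_of_sq hk2 i with e | e
  · refine absurd ⟨haS, Subgroup.mem_centralizer_iff.mpr ?_⟩ hac
    have hle : S ≤ Subgroup.centralizer {a} := by
      conv_lhs => rw [← h.sup_zpowers_top hM₁.le hM₁.card hbS hbM]
      refine sup_le (fun y hy => Subgroup.mem_centralizer_singleton_iff.mpr (h.abelian hM₁.cen_le hM₁.le hM₁.card hy ha))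
        (Subgroup.zpowers_le.mpr (Subgroup.mem_centralizer_singleton_iff.mpr
          (commutatorElement_eq_one_iff_mul_comm.mp (hi.symm.trans e)).symm))
    exact fun y hy => Subgroup.mem_centralizer_singleton_iff.mp (hle hy)
  · exact hi.symm.trans e

/-- There are at most two such subgroups. -/
theorem no_three {k : Ω} (hK : ⁅S, S⁆ = Subgroup.zpowers k) (hk2 : k * k = 1)
    (hsq : ∀ z ∈ cen S, z * z ≠ k) {M₁ M₂ M₃ : Subgroup Ω}
    (h₁ : InvMax S M₁) (h₂ : InvMax S M₂) (h₃ : InvMax S M₃) : M₁ = M₂ ∨ M₁ = M₃ ∨ M₂ = M₃ := by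
  by_contra hh
  push Not at hh
  obtain ⟨h12, h13, h23⟩ := hh
  obtain ⟨a, ha, hac, ha2⟩ := h₁.inv
  obtain ⟨b, hb, hbc, hb2⟩ := h₂.inv
  obtain ⟨c, hc, hcc, hc2⟩ := h₃.inv
  have hab := h₁.comm_eq h h₂ h12 hK hk2 ha hac hb hbc
  have hbM : b ∉ M₁ := fun hm => h12 (h₁.eq_of_mem h h₂ hm hb hbc)
  have hcS : c ∈ M₁ ⊔ Subgroup.zpowers b := by
    rw [h.sup_zpowers_top h₁.le h₁.card (h₂.le hb) hbM]; exact h₃.le hc
  obtain ⟨m, hm, _, ⟨j, rfl⟩, hcm⟩ := exists_mul_of_mem_sup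
    ((Subgroup.zpowers_le.mpr (h₂.le hb)).trans (h.normalizer_le h₁.cen_le h₁.le)) hcS
  rw [← h.sup_zpowers_eq h₁.cen_le h₁.le h₁.card ha hac] at hm
  obtain ⟨z, hz, _, ⟨i, rfl⟩, rfl⟩ := exists_mul_of_mem_sup
    ((Subgroup.zpowers_le.mpr (h₁.le ha)).trans (h.normalizer_le le_rfl inf_le_left)) hm
  have hcm' : c = z * a ^ i * b ^ j := hcm
  rcases zpow_of_sq ha2 i with e | e <;> rcases zpow_of_sq hb2 j with e' | e' <;> rw [e, e'] at hcm'
  · rw [mul_one, mul_one] at hcm'; exact hcc (hcm' ▸ hz)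
  · refine h23 (h₂.eq_of_mem h h₃ ?_ hc hcc)
    rw [hcm', mul_one]; exact M₂.mul_mem (h₂.cen_le hz) hb
  · refine h13 (h₁.eq_of_mem h h₃ ?_ hc hcc)
    rw [hcm', mul_one]; exact M₁.mul_mem (h₁.cen_le hz) ha
  · refine hsq z hz ?_
    have hai : a⁻¹ = a := inv_eq_of_mul_eq_one_left ha2
    have hbi : b⁻¹ = b := inv_eq_of_mul_eq_one_left hb2
    have habab : a * b * (a * b) = k := by
      rw [← hab, commutatorElement_def, hai, hbi, mul_assoc, mul_assoc, mul_assoc]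
    have hzc : (a * b) * z = z * (a * b) := cen_comm hz (S.mul_mem (h₁.le ha) (h₂.le hb))
    have h1 : z * z * k = 1 := by
      rw [← habab, ← hc2, hcm']
      calc z * z * (a * b * (a * b)) = z * (z * (a * b)) * (a * b) := by group
        _ = z * ((a * b) * z) * (a * b) := by rw [hzc]
        _ = z * a * b * (z * a * b) := by group
    calc z * z = z * z * k * k⁻¹ := by group
      _ = k⁻¹ := by rw [h1, one_mul]
      _ = k := inv_eq_of_mul_eq_one_left hk2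

/-- Automorphisms of `S` fix each such subgroup. -/
theorem InvMax.fixed {k : Ω} (hK : ⁅S, S⁆ = Subgroup.zpowers k) (hk2 : k * k = 1)
    (hsq : ∀ z ∈ cen S, z * z ≠ k) (hM : InvMax S M) {α : MulAut S} (hα : α ∈ F.autGroup S) :
    SmallCentre.img α M = M := by
  let H : Subgroup (MulAut S) :=
    { carrier := {γ | SmallCentre.img γ M = M}
      one_mem' := img_one hM.le
      mul_mem' := fun {u v} (hu : SmallCentre.img u M = M) (hv : SmallCentre.img v M = M) => by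
        show SmallCentre.img (u * v) M = M
        rw [img_mul, hv, hu]
      inv_mem' := fun {u} (hu : SmallCentre.img u M = M) => by
        show SmallCentre.img u⁻¹ M = M
        conv_lhs => rw [← hu]
        rw [← img_mul, inv_mul_cancel, img_one hM.le] }
  haveI : Finite (MulAut S) := Finite.of_injective (fun α : MulAut S => (α : S → S)) DFunLike.coe_injective
  haveI : Fact (Nat.Prime 2) := ⟨Nat.prime_two⟩
  set n := orderOf α with hn
  have hn0 : n ≠ 0 := (orderOf_pos α).ne'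
  set a := n.factorization 2
  have hm : (n / 2 ^ a).Coprime 2 := (Nat.coprime_ordCompl Nat.prime_two hn0).symm
  have hαm : (α ^ (n / 2 ^ a)) ^ 2 ^ a = 1 := by
    rw [← pow_mul, Nat.div_mul_cancel (Nat.ordProj_dvd n 2), hn, pow_orderOf_eq_one]
  have h1 : α ^ (n / 2 ^ a) ∈ H := by
    obtain ⟨s, hs⟩ := h.exists_conj_of_pow (pow_mem hα _) hαm
    show SmallCentre.img _ M = M
    rw [← hs]
    have hN := h.normalizer_le hM.cen_le hM.le s.2
    ext y
    rw [mem_img]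
    constructor
    · rintro ⟨x, hx, rfl⟩
      exact (Subgroup.mem_normalizer_iff.mp hN x).mp hx
    · intro hy
      refine ⟨(MulAut.conj s)⁻¹ ⟨y, hM.le hy⟩, ?_, by rw [MulAut.apply_inv_self]⟩
      simp only [MulAut.conj_inv_apply, Subgroup.coe_mul, InvMemClass.coe_inv]
      exact (Subgroup.mem_normalizer_iff''.mp hN y).mp hy
  have h2 : ∀ γ : MulAut S, γ * γ ∈ H := by
    intro γ
    show SmallCentre.img (γ * γ) M = M
    rcases no_three h hK hk2 hsq hM (hM.img h γ) (hM.img h (γ * γ)) with e | e | e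
    · rw [img_mul, ← e, ← e]
    · exact e.symm
    · rw [img_mul] at e ⊢
      have e1 : SmallCentre.img γ M = M := by
        have := congrArg (SmallCentre.img γ⁻¹) e
        rw [← img_mul, ← img_mul, inv_mul_cancel, img_one hM.le, img_one (img_le γ M)] at this
        exact this.symm
      rw [e1, e1]
  refine mem_of_pow_coprime H (hm.pow_right a) h1 ?_
  obtain ⟨t, ht⟩ : Odd (n / 2 ^ a) := Nat.coprime_two_right.mp hm
  have h3 : (α ^ 2 ^ a) ^ (n / 2 ^ a) = 1 := by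
    rw [← pow_mul, Nat.mul_div_cancel' (Nat.ordProj_dvd n 2), hn, pow_orderOf_eq_one]
  have e : α ^ 2 ^ a = (α ^ 2 ^ a * α ^ 2 ^ a) ^ (t + 1) := by
    rw [← pow_two, ← pow_mul (α ^ 2 ^ a), show 2 * (t + 1) = n / 2 ^ a + 1 by omega, pow_succ, h3, one_mul]
  rw [e]
  exact H.pow_mem (h2 _) _

/-- The data attached to an essential subgroup. -/
theorem exists_local (hE : F.IsEssential 2 E) :
    ∃ (k a : Ω) (C : Subgroup Ω), ⁅S, S⁆ = Subgroup.zpowers k ∧ orderOf k = 2 ∧ k ∈ cen S ∧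
      (∀ z ∈ cen S, z * z ≠ k) ∧ a ∈ E ∧ a ∉ cen S ∧ a * a = 1 ∧
      C ≤ cen S ∧ k ∉ C ∧ (∀ z ∈ cen S, ∃ y ∈ C, ∃ i : ℤ, z = y * k ^ i) ∧
      (∀ ψ ∈ F.autGroup E, ∀ y : E, (y : Ω) ∈ C → ((ψ y : E) : Ω) ∈ C) ∧
      (∀ ψ ∈ F.autGroup E, ∀ y : E, (y : Ω) = a → ((ψ y : E) : Ω) ∈ Subgroup.zpowers k ⊔ Subgroup.zpowers a) ∧
      (∀ ψ ∈ F.autGroup E, (∀ y : E, (y : Ω) ∈ cen S → ((ψ y : E) : Ω) ∈ cen S) →
        ∀ y : E, (y : Ω) ∈ cen S → (y : Ω)⁻¹ * (ψ y : E) ∈ C) ∧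
      ∀ ψ ∈ F.autGroup E, ∃ α ∈ F.autGroup S, ∀ (y : E) (hy : (y : Ω) ∈ S),
        ((α ⟨y, hy⟩ : S) : Ω)⁻¹ * (ψ y : E) ∈ Subgroup.zpowers k ⊔ Subgroup.zpowers a := by
  haveI : Fact (Nat.Prime 2) := ⟨Nat.prime_two⟩
  haveI : Fact ((2 : ℕ) = 2) := ⟨rfl⟩
  obtain ⟨x, e, hx, hk, he, hxE, hko, hK, htv⟩ := h.exists_tv hE
  have hES := hE.1.1
  haveI : Finite E := finite_of_le hES
  have hZE := h.cen_le_ess hE
  obtain ⟨φ, hφ, hZ⟩ := htv.exists_moving
  set kE : E := ⟨⁅x, e⁆, hk⟩ with hkE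
  set Z' := (cen S).subgroupOf E with hZ'
  set C0 := Z' ⊓ Z'.map φ.toMonoidHom with hC0
  have hC0inv : ∀ ψ ∈ F.autGroup E, ∀ y ∈ C0, ψ y ∈ C0 := by
    have key : ∀ χ ∈ F.autGroup E, ∀ y ∈ C0, y ∈ Z'.map χ.toMonoidHom := by
      intro χ hχ y hy
      obtain ⟨χ', hχ', he', hfix, -, -⟩ := htv.exists_small hφ hZ hχ
      rw [← he']
      exact ⟨y, hy.1, hfix y hy⟩
    intro ψ hψ y hy
    refine ⟨?_, ?_⟩
    · obtain ⟨w, hw, hwe⟩ := key ψ⁻¹ (inv_mem hψ) y hy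
      have he' : ψ⁻¹ w = y := hwe
      rw [← he', MulAut.apply_inv_self]
      exact hw
    · obtain ⟨w, hw, hwe⟩ := key (ψ⁻¹ * φ) (mul_mem (inv_mem hψ) hφ) y hy
      have he' : ψ⁻¹ (φ w) = y := hwe
      rw [← he', MulAut.apply_inv_self]
      exact ⟨w, hw, rfl⟩
  have hCmem : ∀ y : E, (y : Ω) ∈ C0.map E.subtype ↔ y ∈ C0 := fun y => Subgroup.mem_map_iff_mem Subtype.coe_injective
  have hak : (Subgroup.zpowers kE ⊔ Subgroup.zpowers (φ kE)).map E.subtype =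
      Subgroup.zpowers ⁅x, e⁆ ⊔ Subgroup.zpowers ((φ kE : E) : Ω) := by
    rw [Subgroup.map_sup, MonoidHom.map_zpowers, MonoidHom.map_zpowers]; rfl
  have hkZ : ⁅x, e⁆ ∈ cen S := h.commutator_le hx (hES he)
  have hφk : φ kE * φ kE = 1 := by
    rw [← map_mul, show kE * kE = 1 from Subtype.ext (by
      push_cast; rw [← pow_two, ← hko, pow_orderOf_eq_one]), map_one]
  refine ⟨⁅x, e⁆, (φ kE : E), C0.map E.subtype, hK, hko, hkZ, ?_, (φ kE).2,
    fun hc => htv.apply_k_not_mem hφ hZ hc, congrArg Subtype.val hφk, ?_, ?_, ?_, ?_, ?_, ?_, ?_⟩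
  · intro z hz hzz
    obtain ⟨y, hy, i, hi⟩ := htv.decomp hφ hZ (z := ⟨z, hZE hz⟩) hz
    refine htv.k_not_mem hφ hZ ?_
    have hk1 : kE ^ i * kE ^ i = 1 := by
      rw [← zpow_add, ← two_mul, zpow_mul, show kE ^ (2 : ℤ) = 1 from by
        rw [zpow_two]; exact Subtype.ext (by push_cast; rw [← pow_two, ← hko, pow_orderOf_eq_one]), one_zpow]
    have e1 : kE = y * y := by
      have h1 : (⟨z, hZE hz⟩ : E) * ⟨z, hZE hz⟩ = kE := Subtype.ext hzz
      rw [← h1, hi]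
      calc y * kE ^ i * (y * kE ^ i) = y * (kE ^ i * y) * kE ^ i := by group
        _ = y * (y * kE ^ i) * kE ^ i := by rw [htv.comm (kE ^ i) y]
        _ = y * y * (kE ^ i * kE ^ i) := by group
        _ = y * y := by rw [hk1, mul_one]
    rw [e1]
    exact Subgroup.mul_mem _ hy.2 hy.2
  · rintro _ ⟨y, hy, rfl⟩; exact hy.1
  · rintro ⟨y, hy, hye⟩
    have : y = kE := Subtype.ext hye
    exact htv.k_not_mem hφ hZ (this ▸ hy.2)
  · intro z hz
    obtain ⟨y, hy, i, hi⟩ := htv.decomp hφ hZ (z := ⟨z, hZE hz⟩) hz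
    refine ⟨y, (hCmem y).mpr hy, i, ?_⟩
    have := congrArg Subtype.val hi
    push_cast at this
    exact this
  · exact fun ψ hψ y hy => (hCmem _).mpr (hC0inv ψ hψ y ((hCmem y).mp hy))
  · intro ψ hψ y hy
    obtain rfl : y = φ kE := Subtype.ext hy
    obtain ⟨χ, hχ, hχZ, -, hχk, -⟩ := htv.exists_small hφ hZ (mul_mem hψ hφ)
    have e1 : ψ (φ kE) = χ kE := by
      have h1 := htv.apply_k_eq (χ := χ⁻¹ * (ψ * φ)) (by
        rw [show (χ⁻¹ * (ψ * φ)).toMonoidHom = (χ⁻¹ : MulAut E).toMonoidHom.comp (ψ * φ).toMonoidHom from rfl,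
          ← Subgroup.map_map, ← hχZ, Subgroup.map_map]
        refine (congrArg (Z'.map ·) ?_).trans (Subgroup.map_id _)
        ext w; simp) (mul_mem (inv_mem hχ) (mul_mem hψ hφ))
      have h2 := congrArg (fun w => χ w) h1
      simpa using h2
    rw [← hak, e1]
    exact ⟨_, hχk, rfl⟩
  · intro ψ hψ hpres y hy
    have hψZ : Z'.map ψ.toMonoidHom = Z' := by
      refine Subgroup.eq_of_le_of_card_ge ?_ (le_of_eq ?_)
      · rintro _ ⟨w, hw, rfl⟩; exact hpres w hw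
      · exact Nat.card_congr (Z'.equivMapOfInjective _ ψ.injective).toEquiv
    obtain ⟨w, hw, i, rfl⟩ := htv.decomp hφ hZ (z := y) hy
    have e2 : (w * kE ^ i)⁻¹ * ψ (w * kE ^ i) = w⁻¹ * ψ w := by
      rw [map_mul, map_zpow, htv.apply_k_eq hψZ hψ, mul_inv_rev]
      calc (kE ^ i)⁻¹ * w⁻¹ * (ψ w * kE ^ i) = (kE ^ i)⁻¹ * ((w⁻¹ * ψ w) * kE ^ i) := by group
        _ = _ := by rw [htv.comm (w⁻¹ * ψ w) (kE ^ i), inv_mul_cancel_left]
    refine ⟨(w * kE ^ i)⁻¹ * ψ (w * kE ^ i), ?_, rfl⟩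
    rw [e2]
    exact C0.mul_mem (C0.inv_mem hw) (hC0inv ψ hψ w hw)
  · intro ψ hψ
    obtain ⟨χ, hχ, hχZ, hfix, hχk, hχl⟩ := htv.exists_small hφ hZ hψ
    obtain ⟨α, hα, hαe⟩ := h.exists_extend hE (ψ := χ⁻¹ * ψ) (mul_mem (inv_mem hχ) hψ) (by
      rw [show (χ⁻¹ * ψ).toMonoidHom = (χ⁻¹ : MulAut E).toMonoidHom.comp ψ.toMonoidHom from rfl,
        ← Subgroup.map_map, ← hχZ, Subgroup.map_map]
      refine (congrArg (Z'.map ·) ?_).trans (Subgroup.map_id _)
      ext w; simp)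
    refine ⟨α, hα, fun y hy => ?_⟩
    rw [hαe y, ← hak]
    have hgen : ∀ w : E, w⁻¹ * χ w ∈ Subgroup.zpowers kE ⊔ Subgroup.zpowers (φ kE) := by
      set W := Subgroup.zpowers kE ⊔ Subgroup.zpowers (φ kE)
      let B : Subgroup E :=
        { carrier := {w | w⁻¹ * χ w ∈ W}
          one_mem' := by simp
          mul_mem' := fun {u v} hu hv => by
            show (u * v)⁻¹ * χ (u * v) ∈ W
            rw [map_mul, mul_inv_rev, show v⁻¹ * u⁻¹ * (χ u * χ v) = v⁻¹ * ((u⁻¹ * χ u) * χ v) by group,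
              htv.comm (u⁻¹ * χ u) (χ v), ← mul_assoc]
            exact W.mul_mem hv hu
          inv_mem' := fun {u} hu => by
            show u⁻¹⁻¹ * χ u⁻¹ ∈ W
            rw [inv_inv, map_inv, htv.comm, show (χ u)⁻¹ * u = (u⁻¹ * χ u)⁻¹ by group]
            exact W.inv_mem hu }
      have hW : kE ∈ B ∧ φ kE ∈ B :=
        ⟨W.mul_mem (W.inv_mem (Subgroup.mem_sup_left (Subgroup.mem_zpowers _))) hχk,
          W.mul_mem (W.inv_mem (Subgroup.mem_sup_right (Subgroup.mem_zpowers _))) hχl⟩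
      intro w
      obtain ⟨z, hz, j, rfl⟩ := htv.decomp_top (H := Z') htv.idx (htv.apply_k_not_mem hφ hZ) w
      obtain ⟨y', hy', i, rfl⟩ := htv.decomp hφ hZ hz
      refine B.mul_mem (B.mul_mem ?_ (B.zpow_mem hW.1 i)) (B.zpow_mem hW.2 j)
      show y'⁻¹ * χ y' ∈ W
      rw [hfix y' hy', inv_mul_cancel]
      exact W.one_mem
    refine ⟨((χ⁻¹ * ψ) y)⁻¹ * ψ y, ?_, rfl⟩
    have := hgen ((χ⁻¹ * ψ) y)
    rwa [MulAut.mul_apply, MulAut.apply_inv_self, ← MulAut.mul_apply] at this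

theorem card_cen_two (hhyp : F.hyperfocalSubgroup 2 = S) :
    Nat.card (cen S) = 2 ∧ ∃ a b : Ω, a ∈ S ∧ b ∈ S ∧ a * a = 1 ∧ b * b = 1 ∧ (a * b) ^ 4 = 1 ∧
      Subgroup.closure {a, b} = S := by
  haveI : Fact (Nat.Prime 2) := ⟨Nat.prime_two⟩
  obtain ⟨E₁, hE₁⟩ := h.exists_essential
  obtain ⟨k, a, C₁, hK, hko, hkZ, hsq, haE, haZ, ha2, hC₁, hkC₁, hdec₁, hinv₁, hW₁, hD₁, hgen₁⟩ := exists_local h hE₁
  have hk2 : k * k = 1 := by rw [← pow_two, ← hko, pow_orderOf_eq_one]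
  have hess : ∀ E, F.IsEssential 2 E → InvMax S E := fun E hE => by
    obtain ⟨k', a', C', -, -, -, -, ha'E, ha'Z, ha'2, -⟩ := exists_local h hE
    exact ⟨h.cen_le_ess hE, hE.1.1, h.card_ess hE, a', ha'E, ha'Z, ha'2⟩
  have hstab : ∀ α ∈ F.autGroup S, ∀ E, F.IsEssential 2 E → ∀ y : S, (y : Ω) ∈ E → ((α y : S) : Ω) ∈ E :=
    fun α hα E hE y hy => by
      have := (hess E hE).fixed h hK hk2 hsq hα
      rw [← this]; exact mem_img.mpr ⟨y, hy, rfl⟩
  -- a second essential subgroup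
  obtain ⟨E₂, hE₂, hne⟩ : ∃ E₂, F.IsEssential 2 E₂ ∧ E₁ ≠ E₂ := by
    by_contra hh
    push Not at hh
    have := h.eq_bot_of_invariant (Q := E₁) hE₁.1.1 (fun α hα y hy => hstab α hα E₁ hE₁ y hy) fun E hE => by
      have e := hh E hE
      subst e
      exact ⟨le_rfl, fun ψ _ y _ => (ψ y).2⟩
    rw [this, Subgroup.mem_bot] at haE
    exact haZ (haE ▸ (cen S).one_mem)
  obtain ⟨k', b, C₂, hK', hko', hkZ', hsq', hbE, hbZ, hb2, hC₂, hkC₂, hdec₂, hinv₂, hW₂, hD₂, hgen₂⟩ := exists_local h hE₂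
  obtain rfl : k = k' := by
    obtain ⟨i, hi⟩ := (hK'.symm.trans hK).le (Subgroup.mem_zpowers k')
    rcases zpow_of_sq hk2 i with e | e
    · exfalso
      rw [← show k ^ i = k' from hi, e, orderOf_one] at hko'
      omega
    · exact (hi.symm.trans e).symm
  have hab := (hess E₁ hE₁).comm_eq h (hess E₂ hE₂) hne hK hk2 haE haZ hbE hbZ
  have honly : ∀ E, F.IsEssential 2 E → E = E₁ ∨ E = E₂ := fun E hE => by
    rcases no_three h hK hk2 hsq (hess E₁ hE₁) (hess E₂ hE₂) (hess E hE) with e | e | e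
    · exact absurd e hne
    · exact Or.inl e.symm
    · exact Or.inr e.symm
  -- the subgroup generated by the displacements of the centre
  set D := Subgroup.closure {d : Ω | ∃ α ∈ F.autGroup S, ∃ z : S, (z : Ω) ∈ cen S ∧ d = (z : Ω)⁻¹ * (α z : S)} with hD
  have hDC : ∀ (E : Subgroup Ω) (C : Subgroup Ω), F.IsEssential 2 E →
      (∀ ψ ∈ F.autGroup E, (∀ y : E, (y : Ω) ∈ cen S → ((ψ y : E) : Ω) ∈ cen S) →
        ∀ y : E, (y : Ω) ∈ cen S → (y : Ω)⁻¹ * (ψ y : E) ∈ C) → D ≤ C := by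
    intro E C hE hC
    rw [hD, Subgroup.closure_le]
    rintro _ ⟨α, hα, z, hz, rfl⟩
    obtain ⟨ψ, hψ, hψe⟩ := exists_restrict hα hE.1.1 fun y => hstab α hα E hE _ y.2
    have := hC ψ hψ (fun y hy => by rw [hψe]; exact apply_mem_cen α hy) ⟨z, h.cen_le_ess hE hz⟩ hz
    rwa [hψe] at this
  have hD₁' : D ≤ C₁ := hDC E₁ C₁ hE₁ hD₁
  have hD₂' : D ≤ C₂ := hDC E₂ C₂ hE₂ hD₂
  set R := D ⊔ Subgroup.zpowers k with hR
  have hRZ : R ≤ cen S := sup_le (hD₁'.trans hC₁) (Subgroup.zpowers_le.mpr hkZ)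
  set H := R ⊔ Subgroup.zpowers a ⊔ Subgroup.zpowers b with hH
  have haS := hE₁.1.1 haE
  have hbS := hE₂.1.1 hbE
  have hRS : R ≤ S := hRZ.trans inf_le_left
  have hRaS : R ⊔ Subgroup.zpowers a ≤ S := sup_le hRS (Subgroup.zpowers_le.mpr haS)
  have hHS : H ≤ S := sup_le hRaS (Subgroup.zpowers_le.mpr hbS)
  have hKH : ⁅S, S⁆ ≤ H := hK ▸ le_sup_right.trans (le_sup_left.trans le_sup_left)
  have hka : Subgroup.zpowers k ⊔ Subgroup.zpowers a ≤ H :=
    sup_le (hK ▸ hKH) (le_sup_right.trans le_sup_left)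
  have hkb : Subgroup.zpowers k ⊔ Subgroup.zpowers b ≤ H := sup_le (hK ▸ hKH) le_sup_right
  have hbE₁ : b ∉ E₁ := fun hb => hne ((hess E₁ hE₁).eq_of_mem h (hess E₂ hE₂) hb hbE hbZ)
  have hSsup := h.sup_zpowers_top hE₁.1.1 (h.card_ess hE₁) hbS hbE₁
  -- automorphisms of `S` move elements inside `H`
  have hautS : ∀ α ∈ F.autGroup S, ∀ y : S, (y : Ω)⁻¹ * (α y : S) ∈ H := by
    intro α hα
    let B : Subgroup S :=
      { carrier := {y : S | (y : Ω)⁻¹ * (α y : S) ∈ H}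
        one_mem' := by simp
        mul_mem' := fun {u v} (hu : (u : Ω)⁻¹ * (α u : S) ∈ H) (hv : (v : Ω)⁻¹ * (α v : S) ∈ H) => by
          show ((u * v : S) : Ω)⁻¹ * (α (u * v) : S) ∈ H
          rw [map_mul, Subgroup.coe_mul, Subgroup.coe_mul,
            show ((u : Ω) * v)⁻¹ * ((α u : S) * (α v : S) : Ω) =
              ⁅(v : Ω)⁻¹, (u : Ω)⁻¹ * (α u : S)⁆ * ((u : Ω)⁻¹ * (α u : S)) * ((v : Ω)⁻¹ * (α v : S)) by
              rw [commutatorElement_def]; group]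
          exact H.mul_mem (H.mul_mem (hKH (Subgroup.commutator_mem_commutator (S.inv_mem v.2) (hHS hu))) hu) hv
        inv_mem' := fun {u} (hu : (u : Ω)⁻¹ * (α u : S) ∈ H) => by
          show ((u⁻¹ : S) : Ω)⁻¹ * (α u⁻¹ : S) ∈ H
          rw [map_inv, InvMemClass.coe_inv, InvMemClass.coe_inv,
            show (u : Ω)⁻¹⁻¹ * ((α u : S) : Ω)⁻¹ = ⁅(u : Ω), ((u : Ω)⁻¹ * (α u : S))⁻¹⁆ * ((u : Ω)⁻¹ * (α u : S))⁻¹ by
              rw [commutatorElement_def]; group]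
          exact H.mul_mem (hKH (Subgroup.commutator_mem_commutator u.2 (hHS (H.inv_mem hu)))) (H.inv_mem hu) }
    have hle : S ≤ B.map S.subtype := by
      conv_lhs => rw [← hSsup, ← h.sup_zpowers_eq (h.cen_le_ess hE₁) hE₁.1.1 (h.card_ess hE₁) haE haZ]
      refine sup_le (sup_le (fun z hz => ⟨⟨z, hz.1⟩, ?_, rfl⟩) (Subgroup.zpowers_le.mpr ⟨⟨a, haS⟩, ?_, rfl⟩))
        (Subgroup.zpowers_le.mpr ⟨⟨b, hbS⟩, ?_, rfl⟩)
      · exact Subgroup.mem_sup_left (Subgroup.mem_sup_left (Subgroup.mem_sup_left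
          (Subgroup.subset_closure ⟨α, hα, _, hz, rfl⟩)))
      · obtain ⟨ψ, hψ, hψe⟩ := exists_restrict hα hE₁.1.1 fun y => hstab α hα E₁ hE₁ _ y.2
        have := hka (hW₁ ψ hψ ⟨a, haE⟩ rfl)
        rw [hψe] at this
        exact H.mul_mem (H.inv_mem (hka (Subgroup.mem_sup_right (Subgroup.mem_zpowers a)))) this
      · obtain ⟨ψ, hψ, hψe⟩ := exists_restrict hα hE₂.1.1 fun y => hstab α hα E₂ hE₂ _ y.2
        have := hkb (hW₂ ψ hψ ⟨b, hbE⟩ rfl)
        rw [hψe] at this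
        exact H.mul_mem (H.inv_mem (hkb (Subgroup.mem_sup_right (Subgroup.mem_zpowers b)))) this
    intro y
    obtain ⟨y', hy', he⟩ := hle y.2
    rwa [show y' = y from Subtype.ext he] at hy'
  have hautE : ∀ E, F.IsEssential 2 E → ∀ ψ ∈ F.autGroup E, ∀ y : E, (y : Ω)⁻¹ * (ψ y : E) ∈ H := by
    intro E hE ψ hψ y
    have key : ∀ (α : MulAut S) (W : Subgroup Ω), α ∈ F.autGroup S → W ≤ H →
        ((α ⟨y, hE.1.1 y.2⟩ : S) : Ω)⁻¹ * (ψ y : E) ∈ W → (y : Ω)⁻¹ * (ψ y : E) ∈ H := by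
      intro α W hα hW hm
      have := H.mul_mem (hautS α hα ⟨y, hE.1.1 y.2⟩) (hW hm)
      rwa [mul_assoc, mul_inv_cancel_left] at this
    rcases honly E hE with rfl | rfl
    · obtain ⟨α, hα, he⟩ := hgen₁ ψ hψ; exact key α _ hα hka (he y _)
    · obtain ⟨α, hα, he⟩ := hgen₂ ψ hψ; exact key α _ hα hkb (he y _)
  have hfoc : F.focalSubgroup ≤ H := by
    let E' : FusionSystem S :=
      { Hom := fun P => {φ | φ ∈ F.Hom P ∧ ∀ x : P, (x : Ω)⁻¹ * φ x ∈ H}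
        le_of_mem := fun h => F.le_of_mem h.1
        injective_of_mem := fun h => F.injective_of_mem h.1
        conj_mem := fun {P g} hP hg => ⟨F.conj_mem hP hg, fun x => hKH (by
          have := Subgroup.commutator_mem_commutator (InvMemClass.inv_mem (hP x.2)) hg
          simpa [commutatorElement_def, conjHom_apply, mul_assoc] using this)⟩
        comp_mem := fun {P Q φ ψ} hφ hψ h => ⟨F.comp_mem hφ.1 hψ.1 h, fun x => by
          have := mul_mem (hφ.2 x) (hψ.2 ⟨φ x, h x⟩)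
          rwa [mul_assoc, mul_inv_cancel_left] at this⟩
        inv_mem := fun {P φ} hφ => by
          obtain ⟨ψ, hψ, hl⟩ := F.inv_mem hφ.1
          refine ⟨ψ, ⟨hψ, ?_⟩, hl⟩
          rintro ⟨_, x, rfl⟩
          have := InvMemClass.inv_mem (hφ.2 x)
          rw [hl]
          simpa [mul_inv_rev] using this }
    have key : F ≤ E' := by
      refine h.sat.le_of_autGroup_le h.pg E' fun P hP α hα => ?_
      have hPS : P ≤ S := by
        rcases hP with rfl | hP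
        exacts [le_rfl, hP.1.1]
      refine (E'.mem_autGroup_iff hPS).mpr ⟨(F.mem_autGroup_iff hPS).mp hα, fun y => ?_⟩
      rcases hP with rfl | hP
      · exact hautS α hα y
      · exact hautE P hP α hα y
    rw [FusionSystem.focalSubgroup, Subgroup.closure_le]
    rintro _ ⟨P, φ, x, hφ, rfl⟩
    exact (key P hφ).2 x
  have hSH : S ≤ H := by
    have := (hyperfocalSubgroup_le_focalSubgroup (F := F) (p := 2)).trans hfoc
    rwa [hhyp] at this
  -- counting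
  haveI : Finite R := finite_of_le hRS
  haveI : Finite ↥(R ⊔ Subgroup.zpowers a) := finite_of_le hRaS
  haveI : Finite ↥(Subgroup.zpowers a) := finite_of_le (Subgroup.zpowers_le.mpr haS)
  haveI : Finite ↥(Subgroup.zpowers b) := finite_of_le (Subgroup.zpowers_le.mpr hbS)
  haveI : Finite ↥(cen S) := finite_of_le inf_le_left
  have hord : ∀ c : Ω, c * c = 1 → Nat.card (Subgroup.zpowers c) ≤ 2 := fun c hc => by
    rw [Nat.card_zpowers]; exact orderOf_le_of_pow_eq_one two_pos (by rw [pow_two, hc])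
  have hRnorm : ∀ x ∈ S, x ∈ Subgroup.normalizer (R : Set Ω) := by
    intro x hx
    refine Subgroup.mem_normalizer_iff.mpr fun y => ⟨fun hy => ?_, fun hy => ?_⟩
    · rw [cen_comm (hRZ hy) hx, mul_inv_cancel_right]; exact hy
    · have h1 := cen_comm (hRZ hy) (S.inv_mem hx)
      have h2 : y = x⁻¹ * (x * y * x⁻¹) * x := by group
      rw [h2, h1, inv_mul_cancel_right]; exact hy
  have hRanorm : Subgroup.zpowers b ≤ Subgroup.normalizer ((R ⊔ Subgroup.zpowers a : Subgroup Ω) : Set Ω) := by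
    intro x hx
    have hxS : x ∈ S := Subgroup.zpowers_le.mpr hbS hx
    have key : ∀ g ∈ S, ∀ y ∈ R ⊔ Subgroup.zpowers a, g * y * g⁻¹ ∈ R ⊔ Subgroup.zpowers a := fun g hg y hy => by
      rw [h.conj_eq hg (hRaS hy)]
      exact Subgroup.mul_mem _ (Subgroup.mem_sup_left (Subgroup.mem_sup_right
        (hK ▸ Subgroup.commutator_mem_commutator hg (hRaS hy)))) hy
    refine Subgroup.mem_normalizer_iff.mpr fun y => ⟨key x hxS y, fun hy => ?_⟩
    have := key x⁻¹ (S.inv_mem hxS) _ hy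
    simpa [mul_assoc] using this
  have hcardR : Nat.card (cen S) ≤ Nat.card R := by
    have h1 : Nat.card S ≤ Nat.card ↥H := by rw [le_antisymm hSH hHS]
    have h2 : Nat.card ↥H ≤ Nat.card ↥(R ⊔ Subgroup.zpowers a) * Nat.card (Subgroup.zpowers b) := card_sup_le hRanorm
    have h3 : Nat.card ↥(R ⊔ Subgroup.zpowers a) ≤ Nat.card R * Nat.card (Subgroup.zpowers a) :=
      card_sup_le fun x hx => hRnorm x (Subgroup.zpowers_le.mpr haS hx)
    have h4 := h.card_S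
    have h5 : Nat.card ↥(R ⊔ Subgroup.zpowers a) * Nat.card (Subgroup.zpowers b) ≤ Nat.card R * 2 * 2 :=
      Nat.mul_le_mul (h3.trans (Nat.mul_le_mul le_rfl (hord a ha2))) (hord b hb2)
    have h6 : (2 : ℕ) ^ 2 = 4 := by norm_num
    rw [h6] at h4
    omega
  have hReq : R = cen S := Subgroup.eq_of_le_of_card_ge hRZ hcardR
  have hCD : ∀ C : Subgroup Ω, C ≤ cen S → D ≤ C → k ∉ C → C = D := by
    intro C hC hDle hkC
    refine le_antisymm (fun z hz => ?_) hDle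
    have hzR : z ∈ D ⊔ Subgroup.zpowers k := by
      have := hC hz
      rw [← hReq, hR] at this
      exact this
    obtain ⟨d, hd, _, ⟨i, rfl⟩, rfl⟩ := exists_mul_of_mem_sup (fun x hx => Subgroup.mem_normalizer_iff.mpr fun y => by
      have hxS : x ∈ S := Subgroup.zpowers_le.mpr hkZ.1 hx
      have hxc : x ∈ cen S := Subgroup.zpowers_le.mpr hkZ hx
      constructor
      · intro hy; rw [← cen_comm hxc ((hDle.trans hC hy).1), mul_inv_cancel_right]; exact hy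
      · intro hy
        have hyS : y ∈ S := by
          have h' := S.mul_mem (S.mul_mem (S.inv_mem hxS) (hDle.trans hC hy).1) hxS
          simpa [mul_assoc] using h'
        rwa [← cen_comm hxc hyS, mul_inv_cancel_right] at hy) hzR
    rcases zpow_of_sq hk2 i with e | e <;> simp only [e] at hz ⊢
    · rw [mul_one]; exact hd
    · exact absurd ((C.mul_mem_cancel_left (hDle hd)).mp hz) hkC
  have e₁ := hCD C₁ hC₁ hD₁' hkC₁
  have e₂ := hCD C₂ hC₂ hD₂' hkC₂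
  have hDbot : D = ⊥ := by
    refine h.eq_bot_of_invariant (fun x hx => (hC₁ (hD₁' hx)).1) (fun β hβ y hy => ?_) fun E hE => ?_
    · have hy' : y ∈ D.subgroupOf S := hy
      suffices D.subgroupOf S ≤ (D.subgroupOf S).comap β.toMonoidHom from this hy'
      have hDeq : D.subgroupOf S = Subgroup.closure {d : S | ∃ α ∈ F.autGroup S, ∃ z ∈ Subgroup.center S, d = z⁻¹ * α z} := by
        apply Subgroup.map_injective S.subtype_injective
        rw [Subgroup.map_subgroupOf_eq_of_le (fun x hx => (hC₁ (hD₁' hx)).1), MonoidHom.map_closure, hD]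
        congr 1
        ext d
        constructor
        · rintro ⟨α, hα, z, hz, rfl⟩
          exact ⟨z⁻¹ * α z, ⟨α, hα, z, (mem_cen.mp hz).2, rfl⟩, rfl⟩
        · rintro ⟨_, ⟨α, hα, z, hz, rfl⟩, rfl⟩
          exact ⟨α, hα, z, mem_cen.mpr ⟨z.2, hz⟩, rfl⟩
      rw [hDeq, Subgroup.closure_le]
      rintro _ ⟨α, hα, z, hz, rfl⟩
      refine Subgroup.subset_closure ⟨β * α * β⁻¹, mul_mem (mul_mem hβ hα) (inv_mem hβ), β z, apply_mem_center β hz, ?_⟩
      simp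
    · rcases honly E hE with rfl | rfl
      · exact ⟨fun x hx => h.cen_le_ess hE (hC₁ (hD₁' hx)), fun ψ hψ y hy => e₁ ▸ hinv₁ ψ hψ y (e₁.symm ▸ hy)⟩
      · exact ⟨fun x hx => h.cen_le_ess hE (hC₂ (hD₂' hx)), fun ψ hψ y hy => e₂ ▸ hinv₂ ψ hψ y (e₂.symm ▸ hy)⟩
  have hZk : cen S = Subgroup.zpowers k := by rw [← hReq, hR, hDbot, bot_sup_eq]
  refine ⟨by rw [hZk, Nat.card_zpowers, hko], a, b, haS, hbS, ha2, hb2, ?_, ?_⟩
  · have hai : a⁻¹ = a := inv_eq_of_mul_eq_one_left ha2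
    have hbi : b⁻¹ = b := inv_eq_of_mul_eq_one_left hb2
    have habab : a * b * (a * b) = k := by
      rw [← hab, commutatorElement_def, hai, hbi, mul_assoc, mul_assoc, mul_assoc]
    rw [show (4 : ℕ) = 2 * 2 from rfl, pow_mul, pow_two, pow_two, habab, hk2]
  · have hmem_a : a ∈ Subgroup.closure ({a, b} : Set Ω) := Subgroup.subset_closure (by simp)
    have hmem_b : b ∈ Subgroup.closure ({a, b} : Set Ω) := Subgroup.subset_closure (by simp)
    refine le_antisymm ((Subgroup.closure_le _).mpr (by rintro _ (rfl | rfl); exacts [haS, hbS])) (hSH.trans ?_)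
    rw [hH, hR, hDbot, bot_sup_eq]
    refine sup_le (sup_le ?_ (Subgroup.zpowers_le.mpr hmem_a)) (Subgroup.zpowers_le.mpr hmem_b)
    rw [Subgroup.zpowers_le, ← hab, commutatorElement_def]
    exact Subgroup.mul_mem _ (Subgroup.mul_mem _ (Subgroup.mul_mem _ hmem_a hmem_b) (Subgroup.inv_mem _ hmem_a))
      (Subgroup.inv_mem _ hmem_b)

end Cfsg.SmallCentre
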