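import Cfsg.Agent.Lib.Fusion.SmallCentre.Odd
import Cfsg.Agent.Lib.Fusion.SmallCentre.Two
import Cfsg.Agent.Lib.PGroup.CyclicMax
import Cfsg.Agent.Lib.RankFrattini
import Cfsg.Agent.Lib.Chev.Twist.Dihedral
import Mathlib.GroupTheory.SpecificGroups.Cyclic

/-!
A reduced-type saturated fusion system on a `p`-group with centre of index at most `p ^ 2`: the group
is extraspecial of order `p ^ 3`.
-/

set_option autoImplicit false
set_option linter.unusedSectionVars false

open scoped commutatorElement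

namespace Cfsg.SmallCentre

open Cfsg FusionSystem

variable {Ω : Type*} [Group Ω] {S : Subgroup Ω} [Finite S] {p : ℕ} [Fact p.Prime] {F : FusionSystem S}

theorem hyp_of_le (hS : IsPGroup p S) (hF : F.IsSaturated p) (hS1 : S ≠ ⊥) (hcore : F.core = ⊥)
    (hZ : (Subgroup.center S).index ≤ p ^ 2) : Hyp p F := by
  refine ⟨hS, hF, ?_, hcore⟩
  have hnab : ¬ ∀ a b : S, a * b = b * a := by
    intro hab
    refine hS1 (le_bot_iff.mp (hcore ▸ IsNormal.le_core (hF.isNormal_of_invariant hS fun P hP => ?_)))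
    rcases hP with rfl | hP
    · refine ⟨le_rfl, fun α _ => ?_⟩
      rw [Subgroup.subgroupOf_self]
      exact Subgroup.map_top_of_surjective _ α.surjective
    · refine absurd ?_ (hP.lt hS hF).ne
      refine le_antisymm hP.1.1 (le_trans (fun s hs => ?_) hP.1.centralizerIn_le_self)
      exact ⟨hs, Subgroup.mem_centralizer_iff.mpr fun z hz => congrArg Subtype.val (hab ⟨z, hP.1.1 hz⟩ ⟨s, hs⟩)⟩
  obtain ⟨n, hn⟩ := IsPGroup.iff_card.mp hS
  obtain ⟨i, -, hi⟩ := (Nat.dvd_prime_pow Fact.out).mp (hn ▸ (Subgroup.center S).index_dvd_card)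
  rw [hi] at hZ ⊢
  have hi2 : i ≤ 2 := (Nat.pow_le_pow_iff_right (Fact.out : p.Prime).one_lt).mp hZ
  have hi1 : ¬ i ≤ 1 := by
    intro hle
    refine hnab ?_
    haveI : IsCyclic (S ⧸ Subgroup.center S) := by
      interval_cases i
      · haveI : Subsingleton (S ⧸ Subgroup.center S) := (Nat.card_eq_one_iff_unique.mp (by
          rw [← Subgroup.index_eq_card, hi, pow_zero])).1
        exact isCyclic_of_subsingleton
      · exact isCyclic_of_prime_card (p := p) (by rw [← Subgroup.index_eq_card, hi, pow_one])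
    exact commutative_of_cyclic_center_quotient (QuotientGroup.mk' (Subgroup.center S)) (QuotientGroup.ker_mk' _).le
  rw [show i = 2 by omega]

theorem Hyp.pow_mem_center (h : Hyp p F) (x : S) : x ^ p ∈ Subgroup.center S := by
  by_contra hx
  have hq : Nat.card (S ⧸ Subgroup.center S) = p ^ 2 := by rw [← Subgroup.index_eq_card, h.idx]
  have hne : (QuotientGroup.mk x : S ⧸ Subgroup.center S) ^ p ≠ 1 := by
    rw [← QuotientGroup.mk_pow, Ne, QuotientGroup.eq_one_iff]; exact hx
  obtain ⟨j, hj, hje⟩ := (Nat.dvd_prime_pow Fact.out).mp (hq ▸ orderOf_dvd_natCard (QuotientGroup.mk x : S ⧸ Subgroup.center S))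
  interval_cases j
  · exact hne (orderOf_dvd_iff_pow_eq_one.mp (by rw [hje]; simp))
  · exact hne (orderOf_dvd_iff_pow_eq_one.mp (by rw [hje, pow_one]))
  · haveI : IsCyclic (S ⧸ Subgroup.center S) := isCyclic_of_orderOf_eq_card _ (by rw [hje, hq])
    have hc := commutative_of_cyclic_center_quotient (QuotientGroup.mk' (Subgroup.center S)) (QuotientGroup.ker_mk' _).le
    exact hx (Subgroup.mem_center_iff.mpr fun g => hc _ _)

theorem Hyp.isExtraspecial (h : Hyp p F) (hc : Nat.card (cen S) = p) :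
    IsExtraspecial p S ∧ Nat.card S = p ^ 3 := by
  obtain ⟨E, hE⟩ := h.exists_essential
  obtain ⟨x, e, hx, hk, he, -, hko, hK, -⟩ := h.exists_tv hE
  have hcc : Nat.card (Subgroup.center S) = p := by rw [← card_cen, hc]
  have hle : commutator S ≤ Subgroup.center S := by
    rw [commutator_def, Subgroup.commutator_le]
    intro a _ b _
    exact (mem_cen.mp (h.commutator_le a.2 b.2)).2
  have hcomm : commutator S = Subgroup.center S := by
    refine Subgroup.eq_of_le_of_card_ge hle (le_of_eq ?_)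
    rw [hcc, ← Subgroup.card_subtype S (commutator S), Subgroup.map_subtype_commutator, hK, Nat.card_zpowers, hko]
  refine ⟨⟨⟨h.pg, le_antisymm ?_ ?_, hcomm⟩, hcc⟩, ?_⟩
  · haveI : Fact p.Prime := inferInstance
    exact CfsgLib.RankFrattini.frattini_le_of_elementary h.pg _
      (fun a b => hle (Subgroup.commutator_mem_commutator (Subgroup.mem_top a) (Subgroup.mem_top b))) h.pow_mem_center
  · rw [← hcomm]
    exact CfsgLib.commutator_le_frattini_pGroup h.pg
  · rw [h.card_S, hc, ← pow_succ]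

theorem Hyp.exponent_eq (h : Hyp p F) (hp : p ≠ 2) : Monoid.exponent S = p := by
  have hc := h.card_cen_odd hp
  obtain ⟨⟨⟨-, -, hcomm⟩, hcc⟩, -⟩ := h.isExtraspecial hc
  have hcp : ∀ c ∈ commutator S, c ^ p = 1 := fun c hcm => by
    rw [hcomm] at hcm
    have : (⟨c, hcm⟩ : Subgroup.center S) ^ Nat.card (Subgroup.center S) = 1 := pow_card_eq_one'
    rw [hcc] at this
    exact congrArg Subtype.val this
  let T : Subgroup S :=
    { carrier := {a | a ^ p = 1}
      one_mem' := one_pow p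
      mul_mem' := fun {a b} (ha : a ^ p = 1) (hb : b ^ p = 1) => by
        show (a * b) ^ p = 1
        rw [CfsgLib.CyclicMax.mul_pow_of_central_commutators hp hcomm.le hcp a b, ha, hb, mul_one]
      inv_mem' := fun {a} (ha : a ^ p = 1) => by show a⁻¹ ^ p = 1; rw [inv_pow, ha, inv_one] }
  have hmemT : ∀ {a : S}, a ∈ T ↔ a ^ p = 1 := Iff.rfl
  set TΩ := T.map S.subtype with hTΩ
  have hTS : TΩ ≤ S := Subgroup.map_subtype_le _
  have hET : ∀ E : Subgroup Ω, F.IsEssential p E → E ≤ TΩ := by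
    intro E hE y hy
    obtain ⟨x, e, hx, hk, he, -, hko, hK, htv⟩ := h.exists_tv hE
    have hES := hE.1.1
    haveI : Finite E := finite_of_le hES
    haveI : Finite (cen S) := finite_of_le inf_le_left
    obtain ⟨φ, hφ, hZ⟩ := htv.exists_moving
    have hcen : Subgroup.zpowers ⁅x, e⁆ = cen S :=
      Subgroup.eq_of_le_of_card_ge (Subgroup.zpowers_le.mpr (h.commutator_le hx (hES he)))
        (by rw [hc, Nat.card_zpowers, hko])
    set kE : E := ⟨⁅x, e⁆, hk⟩ with hkE
    have hkp : kE ^ p = 1 := Subtype.ext (by push_cast; rw [← hko]; exact pow_orderOf_eq_one _)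
    obtain ⟨z, hz, j, hyz⟩ := htv.decomp_top (H := (cen S).subgroupOf E) htv.idx (htv.apply_k_not_mem hφ hZ) ⟨y, hy⟩
    have hz' : (z : Ω) ∈ Subgroup.zpowers ⁅x, e⁆ := hcen ▸ hz
    obtain ⟨i, hi⟩ := hz'
    have hzk : z = kE ^ i := Subtype.ext (by push_cast; exact hi.symm)
    have hyp : (⟨y, hy⟩ : E) ^ p = 1 := by
      rw [hyz, hzk, Commute.mul_pow (htv.comm _ _), ← zpow_natCast, ← zpow_mul, mul_comm, zpow_mul, zpow_natCast, hkp,
        one_zpow, one_mul, ← zpow_natCast, ← zpow_mul, mul_comm, zpow_mul, zpow_natCast, ← map_pow, hkp, map_one, one_zpow]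
    refine ⟨⟨y, hES hy⟩, hmemT.mpr (Subtype.ext ?_), rfl⟩
    have := congrArg Subtype.val hyp
    push_cast at this ⊢
    exact this
  have hT : T = ⊤ := by
    by_contra hne
    have heq : ∀ E : Subgroup Ω, F.IsEssential p E → E = TΩ := by
      intro E hE
      haveI : Finite TΩ := finite_of_le hTS
      refine Subgroup.eq_of_le_of_card_ge (hET E hE) ?_
      obtain ⟨k, hk3, hke⟩ : ∃ k, k ≤ 3 ∧ Nat.card T = p ^ k := by
        have := Subgroup.card_subgroup_dvd_card T
        rw [(h.isExtraspecial hc).2] at this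
        obtain ⟨k, hk, hke⟩ := (Nat.dvd_prime_pow Fact.out).mp this
        exact ⟨k, hk, hke⟩
      have hk2 : k ≤ 2 := by
        by_contra hk
        exact hne (Subgroup.eq_top_of_card_eq _ (by rw [hke, (h.isExtraspecial hc).2, show k = 3 by omega]))
      rw [hTΩ, Subgroup.card_subtype, h.card_ess hE, hc, hke, ← pow_two]
      exact Nat.pow_le_pow_right (Fact.out : p.Prime).pos hk2
    obtain ⟨E, hE⟩ := h.exists_essential
    have hbot := h.eq_bot_of_invariant hTS (fun α _ y hy => ?_) fun E' hE' => ?_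
    · have := h.card_ess hE
      rw [heq E hE, hbot, Subgroup.card_bot, hc] at this
      nlinarith [(Fact.out : p.Prime).two_le]
    · obtain ⟨w, hw, hwe⟩ := hy
      obtain rfl : w = y := Subtype.ext hwe
      refine ⟨α w, hmemT.mpr ?_, rfl⟩
      rw [← map_pow, hmemT.mp hw, map_one]
    · rw [← heq E' hE']
      exact ⟨le_rfl, fun ψ _ y _ => (ψ y).2⟩
  refine Nat.dvd_antisymm (Monoid.exponent_dvd_of_forall_pow_eq_one fun a => hmemT.mp (hT ▸ Subgroup.mem_top a)) ?_
  obtain ⟨E, hE⟩ := h.exists_essential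
  obtain ⟨x, e, hx, hk, he, -, hko, -⟩ := h.exists_tv hE
  rw [← hko, show orderOf ⁅x, e⁆ = orderOf (⟨⁅x, e⁆, hE.1.1 hk⟩ : S) from
    Subgroup.orderOf_coe (⟨⁅x, e⁆, hE.1.1 hk⟩ : S)]
  exact Monoid.order_dvd_exponent _

theorem extraspecial_of_center_index (hS : IsPGroup p S) (hF : F.IsSaturated p) (hS1 : S ≠ ⊥) (hcore : F.core = ⊥)
    (hhyp : F.hyperfocalSubgroup p = S) (hZ : (Subgroup.center S).index ≤ p ^ 2) :
    IsExtraspecial p S ∧ Nat.card S = p ^ 3 ∧ (p ≠ 2 → Monoid.exponent S = p) ∧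
      (p = 2 → Nonempty (↥S ≃* DihedralGroup 4)) := by
  have h := hyp_of_le hS hF hS1 hcore hZ
  have hc : Nat.card (cen S) = p := by
    by_cases hp : p = 2
    · subst hp; exact (card_cen_two h hhyp).1
    · exact h.card_cen_odd hp
  refine ⟨(h.isExtraspecial hc).1, (h.isExtraspecial hc).2, h.exponent_eq, ?_⟩
  rintro rfl
  obtain ⟨-, a, b, ha, hb, ha2, hb2, hab, hgen⟩ := card_cen_two h hhyp
  refine CfsgLib.Chev.nonempty_dihedral (⟨a, ha⟩ : S) ⟨b, hb⟩ (Subtype.ext ha2) (Subtype.ext hb2)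
    (Subtype.ext hab) ?_ (by rw [(h.isExtraspecial hc).2]; norm_num)
  apply Subgroup.map_injective S.subtype_injective
  rw [MonoidHom.map_closure, Set.image_pair, ← MonoidHom.range_eq_map, Subgroup.range_subtype]
  exact hgen

end Cfsg.SmallCentre
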