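import Cfsg.Agent.Lib.Fusion.Normal
import Mathlib.GroupTheory.Index
import Mathlib.Tactic.Group

/-!
Automorphism groups of a finite abelian `p`-group whose Sylow subgroup is generated by one
transvection and is not normal.
-/

set_option autoImplicit false
set_option linter.unusedSectionVars false

namespace Cfsg.SmallCentre

variable {E : Type*} [Group E] [Finite E] {p : ℕ} [Fact p.Prime]

/-- `c` is a transvection with axis `Z` and centre `⟨k⟩`; `⟨c⟩` is a maximal `p`-subgroup of `A`, not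
normal in `A`. -/
structure TV (p : ℕ) (A : Subgroup (MulAut E)) (c : MulAut E) (Z : Subgroup E) (k : E) : Prop where
  pg : IsPGroup p E
  comm : ∀ a b : E, a * b = b * a
  cA : c ∈ A
  sylow : ∀ U : Subgroup (MulAut E), U ≤ A → IsPGroup p U → c ∈ U → U ≤ Subgroup.zpowers c
  moving : ∃ φ ∈ A, φ * c * φ⁻¹ ∉ Subgroup.zpowers c
  fix : ∀ e, c e = e ↔ e ∈ Z
  range : ∀ e, e⁻¹ * c e ∈ Subgroup.zpowers k
  kZ : k ∈ Z
  korder : orderOf k = p
  idx : Z.index = p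

/-- Automorphisms stabilising the series `1 ≤ L ≤ W ≤ E` with `L` fixed pointwise. -/
def stab (L W : Subgroup E) (h : L ≤ W) : Subgroup (MulAut E) where
  carrier := {α | (∀ x ∈ L, α x = x) ∧ (∀ x ∈ W, x⁻¹ * α x ∈ L) ∧ ∀ x, x⁻¹ * α x ∈ W}
  one_mem' := ⟨fun _ _ => rfl, fun x _ => by simp, fun x => by simp⟩
  mul_mem' := by
    rintro α β ⟨a1, a2, a3⟩ ⟨b1, b2, b3⟩
    have key : ∀ x, x⁻¹ * (α * β) x = (x⁻¹ * β x) * ((β x)⁻¹ * α (β x)) := fun x => by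
      rw [MulAut.mul_apply, mul_assoc, mul_inv_cancel_left]
    refine ⟨fun x hx => by rw [MulAut.mul_apply, b1 x hx, a1 x hx], fun x hx => ?_, fun x => ?_⟩
    · rw [key]
      refine L.mul_mem (b2 x hx) (a2 _ ?_)
      have := W.mul_mem hx (h (b2 x hx))
      rwa [mul_inv_cancel_left] at this
    · rw [key]
      exact W.mul_mem (b3 x) (a3 _)
  inv_mem' := by
    rintro α ⟨a1, a2, a3⟩
    have hW : ∀ x, x⁻¹ * α⁻¹ x ∈ W := fun x => by
      have := W.inv_mem (a3 (α⁻¹ x))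
      rwa [MulAut.apply_inv_self, mul_inv_rev, inv_inv] at this
    refine ⟨fun x hx => ?_, fun x hx => ?_, hW⟩
    · have := congrArg (fun y => α⁻¹ y) (a1 x hx)
      simp only [MulAut.inv_apply_self] at this
      exact this.symm
    · have hy : α⁻¹ x ∈ W := by
        have := W.mul_mem hx (hW x)
        rwa [mul_inv_cancel_left] at this
      have := L.inv_mem (a2 _ hy)
      rwa [MulAut.apply_inv_self, mul_inv_rev, inv_inv] at this

theorem isPGroup_stab (hE : IsPGroup p E) {L W : Subgroup E} (h : L ≤ W) : IsPGroup p (stab L W h) := by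
  refine Cfsg.isPGroup_of_stabilises hE (n := 3) ![⊥, L, W, ⊤] rfl rfl _ fun α hα i x hx => ?_
  fin_cases i
  · show x⁻¹ * α x ∈ (⊥ : Subgroup E)
    rw [Subgroup.mem_bot, hα.1 x hx, inv_mul_cancel]
  · exact hα.2.1 x hx
  · exact hα.2.2 x

namespace TV

variable {A : Subgroup (MulAut E)} {c : MulAut E} {Z : Subgroup E} {k : E}

theorem normal_of (h : TV p A c Z k) (H : Subgroup E) : H.Normal :=
  ⟨fun n hn g => by rw [h.comm g n, mul_inv_cancel_right]; exact hn⟩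

theorem mem_zpowers_of_stab (h : TV p A c Z k) {L W : Subgroup E} (hle : L ≤ W) (hc : c ∈ stab L W hle)
    {d : MulAut E} (hd : d ∈ stab L W hle) (hdA : d ∈ A) : d ∈ Subgroup.zpowers c :=
  h.sylow (A ⊓ stab L W hle) inf_le_left ((isPGroup_stab h.pg hle).to_le inf_le_right) ⟨h.cA, hc⟩ ⟨hdA, hd⟩

theorem pow_fix (h : TV p A c Z k) {d : MulAut E} (hd : d ∈ Subgroup.zpowers c) {z : E} (hz : z ∈ Z) : d z = z := by
  obtain ⟨i, rfl⟩ := hd
  have h1 : c z = z := (h.fix z).mpr hz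
  have h2 : c⁻¹ z = z := by
    have := congrArg (fun y => c⁻¹ y) h1
    simp only [MulAut.inv_apply_self] at this
    exact this.symm
  induction i using Int.induction_on with
  | zero => simp
  | succ n ih => show (c ^ ((n : ℤ) + 1)) z = z; rw [zpow_add, zpow_one, MulAut.mul_apply, h1]; exact ih
  | pred n ih => show (c ^ (-(n : ℤ) - 1)) z = z; rw [zpow_sub, zpow_one, MulAut.mul_apply, h2]; exact ih

theorem conj_c_mem_iff (h : TV p A c Z k) {ψ : MulAut E} (hψ : ψ ∈ A) :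
    ψ * c * ψ⁻¹ ∈ Subgroup.zpowers c ↔ Z.map ψ.toMonoidHom = Z := by
  constructor
  · intro hd
    refine (Subgroup.eq_of_le_of_card_ge (fun z hz => Subgroup.mem_map.mpr ⟨ψ⁻¹ z, ?_, MulAut.apply_inv_self _ _ _⟩) (le_of_eq ?_)).symm
    · refine (h.fix _).mp ?_
      have := congrArg (fun y => ψ⁻¹ y) (h.pow_fix hd hz)
      simpa only [MulAut.mul_apply, MulAut.inv_apply_self] using this
    · exact Nat.card_congr (Z.equivMapOfInjective _ ψ.injective).toEquiv.symm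
  · intro hZ
    refine h.mem_zpowers_of_stab (L := Z) (W := Z) le_rfl ⟨fun x hx => (h.fix x).mpr hx,
      fun x hx => by rw [(h.fix x).mpr hx]; simp, fun x => (Subgroup.zpowers_le.mpr h.kZ) (h.range x)⟩ ?_
      (A.mul_mem (A.mul_mem hψ h.cA) (A.inv_mem hψ))
    have hfix : ∀ x ∈ Z, (ψ * c * ψ⁻¹) x = x := fun x hx => by
      obtain ⟨y, hy, rfl⟩ := hZ.ge hx
      show ψ (c (ψ⁻¹ (ψ y))) = ψ y
      rw [MulAut.inv_apply_self, (h.fix y).mpr hy]
    refine ⟨hfix, fun x hx => by rw [hfix x hx]; simp, fun x => hZ.le ⟨(ψ⁻¹ x)⁻¹ * c (ψ⁻¹ x),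
      (Subgroup.zpowers_le.mpr h.kZ) (h.range _), ?_⟩⟩
    show ψ ((ψ⁻¹ x)⁻¹ * c (ψ⁻¹ x)) = x⁻¹ * ψ (c (ψ⁻¹ x))
    rw [map_mul, map_inv, MulAut.apply_inv_self]

theorem exists_moving (h : TV p A c Z k) : ∃ φ ∈ A, Z.map φ.toMonoidHom ≠ Z := by
  obtain ⟨φ, hφ, hn⟩ := h.moving
  exact ⟨φ, hφ, fun e => hn ((h.conj_c_mem_iff hφ).mpr e)⟩

/-- A moved axis does not contain the original centre. -/
theorem apply_k_not_mem (h : TV p A c Z k) {ψ : MulAut E} (hψ : ψ ∈ A) (hZ : Z.map ψ.toMonoidHom ≠ Z) : ψ k ∉ Z := by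
  intro hl
  refine hZ ((h.conj_c_mem_iff hψ).mp ?_)
  set L := Subgroup.zpowers (ψ k) with hL
  set W := Subgroup.zpowers k ⊔ L with hW
  have hWZ : W ≤ Z := sup_le (Subgroup.zpowers_le.mpr h.kZ) (Subgroup.zpowers_le.mpr hl)
  refine h.mem_zpowers_of_stab (L := L) (W := W) le_sup_right
    ⟨fun x hx => (h.fix x).mpr (hWZ (Subgroup.mem_sup_right hx)), fun x hx => ?_,
      fun x => Subgroup.mem_sup_left (h.range x)⟩ ?_ (A.mul_mem (A.mul_mem hψ h.cA) (A.inv_mem hψ))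
  · rw [(h.fix x).mpr (hWZ hx)]; simp
  have hd : ∀ x, x⁻¹ * (ψ * c * ψ⁻¹) x ∈ L := fun x => by
    obtain ⟨i, hi⟩ := h.range (ψ⁻¹ x)
    refine ⟨i, ?_⟩
    show (ψ k) ^ i = x⁻¹ * ψ (c (ψ⁻¹ x))
    rw [← map_zpow, show k ^ i = (ψ⁻¹ x)⁻¹ * c (ψ⁻¹ x) from hi, map_mul, map_inv, MulAut.apply_inv_self]
  refine ⟨fun x hx => ?_, fun x _ => hd x, fun x => Subgroup.mem_sup_right (hd x)⟩
  obtain ⟨i, rfl⟩ := hx
  show ψ (c (ψ⁻¹ ((ψ k) ^ i))) = (ψ k) ^ i
  rw [map_zpow ψ⁻¹, MulAut.inv_apply_self, map_zpow c, (h.fix k).mpr h.kZ, map_zpow]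

theorem apply_k_not_mem_map (h : TV p A c Z k) {φ ψ : MulAut E} (hφ : φ ∈ A) (hψ : ψ ∈ A)
    (hZ : Z.map ψ.toMonoidHom ≠ Z.map φ.toMonoidHom) : ψ k ∉ Z.map φ.toMonoidHom := by
  intro hm
  obtain ⟨y, hy, he⟩ := hm
  refine h.apply_k_not_mem (A.mul_mem (A.inv_mem hφ) hψ) (fun e => hZ ?_) ?_
  · conv_rhs => rw [← e]
    rw [Subgroup.map_map]
    congr 1
    ext x
    simp
  · show φ⁻¹ (ψ k) ∈ Z
    have he' : φ y = ψ k := he
    rw [← he', MulAut.inv_apply_self]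
    exact hy

theorem k_not_mem (h : TV p A c Z k) {φ : MulAut E} (hφ : φ ∈ A) (hZ : Z.map φ.toMonoidHom ≠ Z) :
    k ∉ Z.map φ.toMonoidHom := by
  have := h.apply_k_not_mem_map hφ A.one_mem (by
    rw [show (1 : MulAut E).toMonoidHom = MonoidHom.id E from rfl, Subgroup.map_id]; exact hZ.symm)
  simpa using this

theorem index_map (h : TV p A c Z k) (φ : MulAut E) : (Z.map φ.toMonoidHom).index = p := by
  rw [Subgroup.index_map_of_bijective φ.bijective, h.idx]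

theorem decomp_top (h : TV p A c Z k) {H : Subgroup E} (hH : H.index = p) {x : E} (hx : x ∉ H) (e : E) :
    ∃ y ∈ H, ∃ i : ℤ, e = y * x ^ i := by
  haveI := h.normal_of H
  have htop : H ⊔ Subgroup.zpowers x = ⊤ := by
    rw [← Subgroup.index_eq_one]
    have hd : (H ⊔ Subgroup.zpowers x).index ∣ p := by
      rw [← hH]
      exact Subgroup.index_dvd_of_le le_sup_left
    refine ((Nat.dvd_prime (Fact.out : p.Prime)).mp hd).resolve_right fun hp => ?_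
    have hlt : H < H ⊔ Subgroup.zpowers x := lt_of_le_of_ne le_sup_left fun e' =>
      hx (e' ▸ Subgroup.mem_sup_right (Subgroup.mem_zpowers x))
    have := Subgroup.index_strictAnti hlt
    omega
  have he : e ∈ H ⊔ Subgroup.zpowers x := by rw [htop]; trivial
  obtain ⟨y, hy, _, ⟨i, rfl⟩, rfl⟩ := Subgroup.mem_sup_of_normal_left.mp he
  exact ⟨y, hy, i, rfl⟩

theorem decomp (h : TV p A c Z k) {φ : MulAut E} (hφ : φ ∈ A) (hZ : Z.map φ.toMonoidHom ≠ Z) {z : E} (hz : z ∈ Z) :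
    ∃ y ∈ Z ⊓ Z.map φ.toMonoidHom, ∃ i : ℤ, z = y * k ^ i := by
  obtain ⟨y, hy, i, rfl⟩ := h.decomp_top (h.index_map φ) (h.k_not_mem hφ hZ) z
  refine ⟨y, ⟨?_, hy⟩, i, rfl⟩
  exact (Subgroup.mul_mem_cancel_right Z (Z.zpow_mem h.kZ i)).mp hz

theorem apply_of_mul (h : TV p A c Z k) (e : E) : ∃ i : ℤ, c e = e * k ^ i := by
  obtain ⟨i, hi⟩ := h.range e
  exact ⟨i, by rw [show k ^ i = e⁻¹ * c e from hi, mul_inv_cancel_left]⟩

theorem exists_pow_apply (h : TV p A c Z k) {l : E} (hl : l ∉ Z) (a : ℤ) :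
    ∃ u ∈ Subgroup.zpowers c, u l = l * k ^ a := by
  obtain ⟨i, hi⟩ := h.apply_of_mul l
  have hp : ¬ (p : ℤ) ∣ i := by
    intro hd
    refine hl ((h.fix l).mp ?_)
    rw [hi, show k ^ i = 1 by rw [← h.korder] at hd; exact orderOf_dvd_iff_zpow_eq_one.mp hd, mul_one]
  obtain ⟨s, t, hst⟩ : IsCoprime i (p : ℤ) :=
    ((Nat.prime_iff_prime_int.mp Fact.out).coprime_iff_not_dvd.mpr hp).symm
  have hn : ∀ n : ℤ, (c ^ n) l = l * k ^ (i * n) := by
    intro n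
    induction n using Int.induction_on with
    | zero => simp
    | succ n ih =>
      rw [zpow_add, zpow_one, MulAut.mul_apply, hi, map_mul, map_zpow, h.pow_fix (Subgroup.zpow_mem _ (Subgroup.mem_zpowers c) _) h.kZ, ih,
        mul_assoc, ← zpow_add]
      congr 2
      ring
    | pred n ih =>
      have h2 : c⁻¹ l = l * k ^ (-i) := by
        apply c.injective
        rw [MulAut.apply_inv_self, map_mul, map_zpow, (h.fix k).mpr h.kZ, hi, mul_assoc, ← zpow_add, add_neg_cancel,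
          zpow_zero, mul_one]
      rw [zpow_sub, zpow_one, MulAut.mul_apply, h2, map_mul, map_zpow, h.pow_fix (Subgroup.zpow_mem _ (Subgroup.mem_zpowers c) _) h.kZ, ih,
        mul_assoc, ← zpow_add]
      congr 2
      ring
  refine ⟨c ^ (a * s), Subgroup.zpow_mem _ (Subgroup.mem_zpowers c) _, ?_⟩
  rw [hn]
  congr 1
  have hk1 : k ^ (p : ℤ) = 1 := by rw [zpow_natCast, ← h.korder, pow_orderOf_eq_one]
  calc k ^ (i * (a * s)) = k ^ (i * (a * s)) * (k ^ (p : ℤ)) ^ (a * t) := by rw [hk1, one_zpow, mul_one]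
    _ = k ^ (a * (s * i + t * p)) := by rw [← zpow_mul, ← zpow_add]; congr 1; ring
    _ = k ^ a := by rw [hst, mul_one]

/-- The Weyl element of two transvections. -/
theorem exists_weyl (h : TV p A c Z k) {φ : MulAut E} (hφ : φ ∈ A) (hZ : Z.map φ.toMonoidHom ≠ Z) :
    ∃ w ∈ A, (∀ y ∈ Z ⊓ Z.map φ.toMonoidHom, w y = y) ∧ w k = (φ k)⁻¹ ∧ w (φ k) = k := by
  have hl := h.apply_k_not_mem hφ hZ
  obtain ⟨u, hu, hul⟩ := h.exists_pow_apply hl 1
  have hk' : φ⁻¹ k ∉ Z := fun hm => h.k_not_mem hφ hZ ⟨φ⁻¹ k, hm, MulAut.apply_inv_self _ _ _⟩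
  obtain ⟨v₀, hv₀, hvk⟩ := h.exists_pow_apply hk' (-1)
  have huA : u ∈ A := Subgroup.zpowers_le.mpr h.cA hu
  have hvA : φ * v₀ * φ⁻¹ ∈ A := A.mul_mem (A.mul_mem hφ (Subgroup.zpowers_le.mpr h.cA hv₀)) (A.inv_mem hφ)
  rw [zpow_one] at hul
  have huk : u k = k := h.pow_fix hu h.kZ
  have hv : (φ * v₀ * φ⁻¹) k = k * (φ k)⁻¹ := by
    show φ (v₀ (φ⁻¹ k)) = _
    rw [hvk, map_mul, MulAut.apply_inv_self, map_zpow, zpow_neg_one]
  have hvl : (φ * v₀ * φ⁻¹) (φ k) = φ k := by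
    show φ (v₀ (φ⁻¹ (φ k))) = φ k
    rw [MulAut.inv_apply_self, h.pow_fix hv₀ h.kZ]
  refine ⟨u * (φ * v₀ * φ⁻¹) * u, A.mul_mem (A.mul_mem huA hvA) huA, fun y hy => ?_, ?_, ?_⟩
  · have h1 : u y = y := h.pow_fix hu hy.1
    have h2 : (φ * v₀ * φ⁻¹) y = y := by
      obtain ⟨x, hx, rfl⟩ := hy.2
      show φ (v₀ (φ⁻¹ (φ x))) = φ x
      rw [MulAut.inv_apply_self, h.pow_fix hv₀ hx]
    show u ((φ * v₀ * φ⁻¹) (u y)) = y
    rw [h1, h2, h1]
  · show u ((φ * v₀ * φ⁻¹) (u k)) = _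
    rw [huk, hv, map_mul, map_inv, huk, hul, mul_inv_rev, mul_inv_cancel_left]
  · show u ((φ * v₀ * φ⁻¹) (u (φ k))) = _
    rw [hul, map_mul, hvl, hv, h.comm k (φ k)⁻¹, mul_inv_cancel_left, huk]

theorem mapsTo_weyl (h : TV p A c Z k) {φ w : MulAut E} (hφ : φ ∈ A) (hZ : Z.map φ.toMonoidHom ≠ Z)
    (hw : ∀ y ∈ Z ⊓ Z.map φ.toMonoidHom, w y = y) (hwk : w k = (φ k)⁻¹) :
    Z.map w.toMonoidHom = Z.map φ.toMonoidHom := by
  refine Subgroup.eq_of_le_of_card_ge ?_ (le_of_eq ?_)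
  · rintro _ ⟨z, hz, rfl⟩
    obtain ⟨y, hy, i, rfl⟩ := h.decomp hφ hZ hz
    show w (y * k ^ i) ∈ _
    rw [map_mul, map_zpow, hw y hy, hwk]
    exact Subgroup.mul_mem _ hy.2 (Subgroup.zpow_mem _ (Subgroup.inv_mem _ (Subgroup.mem_map.mpr ⟨k, h.kZ, rfl⟩)) _)
  · rw [← Nat.card_congr (Z.equivMapOfInjective _ φ.injective).toEquiv,
      ← Nat.card_congr (Z.equivMapOfInjective _ w.injective).toEquiv]

/-- The involution which inverts the centre and fixes the common part of two axes. -/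
theorem exists_iota (h : TV p A c Z k) {φ : MulAut E} (hφ : φ ∈ A) (hZ : Z.map φ.toMonoidHom ≠ Z) :
    ∃ ι ∈ A, Z.map ι.toMonoidHom = Z ∧ ι k = k⁻¹ ∧ ∀ y ∈ Z ⊓ Z.map φ.toMonoidHom, ι y = y := by
  obtain ⟨w, hw, hwy, hwk, hwl⟩ := h.exists_weyl hφ hZ
  have hk2 : (w * w) k = k⁻¹ := by rw [MulAut.mul_apply, hwk, map_inv, hwl]
  have hy2 : ∀ y ∈ Z ⊓ Z.map φ.toMonoidHom, (w * w) y = y := fun y hy => by rw [MulAut.mul_apply, hwy y hy, hwy y hy]
  refine ⟨w * w, A.mul_mem hw hw, Subgroup.eq_of_le_of_card_ge ?_ (le_of_eq ?_), hk2, hy2⟩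
  · rintro _ ⟨z, hz, rfl⟩
    obtain ⟨y, hy, i, rfl⟩ := h.decomp hφ hZ hz
    show (w * w) (y * k ^ i) ∈ Z
    rw [map_mul, map_zpow, hy2 y hy, hk2]
    exact Z.mul_mem hy.1 (Z.zpow_mem (Z.inv_mem h.kZ) _)
  · exact Nat.card_congr (Z.equivMapOfInjective _ (w * w).injective).toEquiv

section two

variable [hp2 : Fact (p = 2)]

theorem zpow_k (h : TV p A c Z k) (i : ℤ) : k ^ i = 1 ∨ k ^ i = k := by
  have hk : k ^ (2 : ℤ) = 1 := by
    rw [show (2 : ℤ) = ((2 : ℕ) : ℤ) from rfl, zpow_natCast, ← hp2.out, ← h.korder, pow_orderOf_eq_one]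
  rcases Int.even_or_odd' i with ⟨j, rfl | rfl⟩
  · left; rw [zpow_mul, hk, one_zpow]
  · right; rw [zpow_add, zpow_mul, hk, one_zpow, one_mul, zpow_one]

theorem apply_of_not_mem (h : TV p A c Z k) {m : E} (hm : m ∉ Z) : c m = m * k := by
  obtain ⟨i, hi⟩ := h.apply_of_mul m
  rcases h.zpow_k i with e | e <;> rw [e] at hi
  · rw [mul_one] at hi; exact absurd ((h.fix m).mp hi) hm
  · exact hi

theorem three_axes (h : TV p A c Z k) {φ ψ : MulAut E} (hφ : φ ∈ A) (hZ : Z.map φ.toMonoidHom ≠ Z) (hψ : ψ ∈ A)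
    (h1 : Z.map ψ.toMonoidHom ≠ Z) (h2 : Z.map ψ.toMonoidHom ≠ Z.map φ.toMonoidHom) :
    Z.map ψ.toMonoidHom = Z.map (c * φ).toMonoidHom := by
  by_contra h3
  have hm := h.apply_k_not_mem hψ h1
  have hmφ := h.apply_k_not_mem_map hφ hψ h2
  refine h.apply_k_not_mem_map (A.mul_mem h.cA hφ) hψ h3 ?_
  have hcm : c (ψ k) ∈ Z.map φ.toMonoidHom := by
    rw [h.apply_of_not_mem hm]
    exact (Subgroup.mul_mem_iff_of_index_two (by rw [h.index_map φ, hp2.out])).mpr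
      ⟨fun h' => absurd h' hmφ, fun h' => absurd h' (h.k_not_mem hφ hZ)⟩
  obtain ⟨y, hy, he⟩ := hcm
  refine ⟨y, hy, ?_⟩
  show c (φ y) = ψ k
  have he' : φ y = c (ψ k) := he
  rw [he', h.apply_of_not_mem hm, map_mul, h.apply_of_not_mem hm, (h.fix k).mpr h.kZ, mul_assoc]
  rw [← pow_two, ← hp2.out, ← h.korder, pow_orderOf_eq_one, mul_one]

/-- Any element of `A` agrees on the axis with one fixing the common part pointwise and moving
elements only by multiples of the two centres. -/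
theorem exists_small (h : TV p A c Z k) {φ ψ : MulAut E} (hφ : φ ∈ A) (hZ : Z.map φ.toMonoidHom ≠ Z) (hψ : ψ ∈ A) :
    ∃ χ ∈ A, Z.map χ.toMonoidHom = Z.map ψ.toMonoidHom ∧ (∀ y ∈ Z ⊓ Z.map φ.toMonoidHom, χ y = y) ∧
      χ k ∈ Subgroup.zpowers k ⊔ Subgroup.zpowers (φ k) ∧ χ (φ k) ∈ Subgroup.zpowers k ⊔ Subgroup.zpowers (φ k) := by
  obtain ⟨w, hw, hwy, hwk, hwl⟩ := h.exists_weyl hφ hZ
  have hwZ := h.mapsTo_weyl hφ hZ hwy hwk
  by_cases h1 : Z.map ψ.toMonoidHom = Z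
  · refine ⟨1, A.one_mem, ?_, fun y _ => rfl, Subgroup.mem_sup_left (Subgroup.mem_zpowers k),
      Subgroup.mem_sup_right (Subgroup.mem_zpowers _)⟩
    rw [h1, show (1 : MulAut E).toMonoidHom = MonoidHom.id E from rfl, Subgroup.map_id]
  by_cases h2 : Z.map ψ.toMonoidHom = Z.map φ.toMonoidHom
  · exact ⟨w, hw, hwZ.trans h2.symm, hwy,
      hwk ▸ Subgroup.mem_sup_right (Subgroup.inv_mem _ (Subgroup.mem_zpowers _)),
      by rw [hwl]; exact Subgroup.mem_sup_left (Subgroup.mem_zpowers k)⟩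
  refine ⟨c * w, A.mul_mem h.cA hw, ?_, fun y hy => ?_, ?_, ?_⟩
  · rw [h.three_axes hφ hZ hψ h1 h2]
    have e : ∀ a b : MulAut E, Z.map (a * b).toMonoidHom = (Z.map b.toMonoidHom).map a.toMonoidHom := fun a b => by
      rw [Subgroup.map_map]; rfl
    rw [e, e, hwZ]
  · rw [MulAut.mul_apply, hwy y hy, (h.fix y).mpr hy.1]
  · rw [MulAut.mul_apply, hwk, map_inv, h.apply_of_not_mem (h.apply_k_not_mem hφ hZ), mul_inv_rev]
    exact Subgroup.mul_mem _ (Subgroup.mem_sup_left (Subgroup.inv_mem _ (Subgroup.mem_zpowers k)))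
      (Subgroup.mem_sup_right (Subgroup.inv_mem _ (Subgroup.mem_zpowers _)))
  · rw [MulAut.mul_apply, hwl, (h.fix k).mpr h.kZ]
    exact Subgroup.mem_sup_left (Subgroup.mem_zpowers k)

theorem apply_k_eq (h : TV p A c Z k) {χ : MulAut E} (hχ : Z.map χ.toMonoidHom = Z) (hA : χ ∈ A) : χ k = k := by
  obtain ⟨e, he⟩ : ∃ e, e ∉ Z := by
    by_contra hh
    push Not at hh
    have := h.idx
    rw [(Subgroup.eq_top_iff' Z).mpr hh, Subgroup.index_top, hp2.out] at this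
    omega
  have hd := (h.conj_c_mem_iff hA).mpr hχ
  have hk : χ k ≠ 1 := fun e => by
    have := h.korder
    rw [χ.map_eq_one_iff.mp e, orderOf_one, hp2.out] at this
    omega
  obtain ⟨j, hj⟩ := hd
  have h1 : (χ * c * χ⁻¹) (χ e) = χ e * χ k := by
    show χ (c (χ⁻¹ (χ e))) = _
    rw [MulAut.inv_apply_self, h.apply_of_not_mem he, map_mul]
  have h2 : ∀ x, x⁻¹ * (χ * c * χ⁻¹) x ∈ Subgroup.zpowers k := by
    intro x
    rw [← hj]
    have hs : Subgroup.zpowers c ≤ stab (Subgroup.zpowers k) (Subgroup.zpowers k) le_rfl := by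
      rw [Subgroup.zpowers_le]
      exact ⟨fun y hy => (h.fix y).mpr (Subgroup.zpowers_le.mpr h.kZ hy), fun y _ => h.range y, h.range⟩
    exact (hs (Subgroup.zpow_mem _ (Subgroup.mem_zpowers c) j)).2.2 x
  have h3 := h2 (χ e)
  rw [h1, inv_mul_cancel_left] at h3
  obtain ⟨i, hi⟩ := h3
  rcases h.zpow_k i with e' | e'
  · exact absurd (hi.symm.trans e') hk
  · exact hi.symm.trans e'

end two

end TV

end Cfsg.SmallCentre
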